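import Cfsg.Agent.Spor.Fi306936.V.U

set_option autoImplicit false
set_option maxRecDepth 100000000
set_option Elab.async false

namespace Cfsg.Agent.Spor.Fi306936.V

theorem uok14 : Net.okb 19 un14 = true := by decide +kernel

theorem rel3_0 : U.rel 19 [29, 1, 5] 0 16 = true := by decide +kernel

theorem rel3_16 : U.rel 19 [29, 1, 5] 16 3 = true := by decide +kernel

theorem uok15 : Net.okb 19 un15 = true := by decide +kernel

theorem rel4_0 : U.rel 19 [31, 27, 1, 11, 27, 23, 28, 19, 28, 23, 28, 19, 28, 23, 28, 19, 28, 23, 28, 19, 28, 23, 28, 19, 28, 23, 28, 19, 28, 23, 28, 19, 28, 28, 11, 1, 28] 0 1 = true := by decide +kernel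

theorem rel4_1 : U.rel 19 [31, 27, 1, 11, 27, 23, 28, 19, 28, 23, 28, 19, 28, 23, 28, 19, 28, 23, 28, 19, 28, 23, 28, 19, 28, 23, 28, 19, 28, 23, 28, 19, 28, 28, 11, 1, 28] 1 1 = true := by decide +kernel

theorem rel4_2 : U.rel 19 [31, 27, 1, 11, 27, 23, 28, 19, 28, 23, 28, 19, 28, 23, 28, 19, 28, 23, 28, 19, 28, 23, 28, 19, 28, 23, 28, 19, 28, 23, 28, 19, 28, 28, 11, 1, 28] 2 1 = true := by decide +kernel

theorem rel4_3 : U.rel 19 [31, 27, 1, 11, 27, 23, 28, 19, 28, 23, 28, 19, 28, 23, 28, 19, 28, 23, 28, 19, 28, 23, 28, 19, 28, 23, 28, 19, 28, 23, 28, 19, 28, 28, 11, 1, 28] 3 1 = true := by decide +kernel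

theorem rel4_4 : U.rel 19 [31, 27, 1, 11, 27, 23, 28, 19, 28, 23, 28, 19, 28, 23, 28, 19, 28, 23, 28, 19, 28, 23, 28, 19, 28, 23, 28, 19, 28, 23, 28, 19, 28, 28, 11, 1, 28] 4 1 = true := by decide +kernel

theorem rel4_5 : U.rel 19 [31, 27, 1, 11, 27, 23, 28, 19, 28, 23, 28, 19, 28, 23, 28, 19, 28, 23, 28, 19, 28, 23, 28, 19, 28, 23, 28, 19, 28, 23, 28, 19, 28, 28, 11, 1, 28] 5 1 = true := by decide +kernel

theorem rel4_6 : U.rel 19 [31, 27, 1, 11, 27, 23, 28, 19, 28, 23, 28, 19, 28, 23, 28, 19, 28, 23, 28, 19, 28, 23, 28, 19, 28, 23, 28, 19, 28, 23, 28, 19, 28, 28, 11, 1, 28] 6 1 = true := by decide +kernel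

theorem rel4_7 : U.rel 19 [31, 27, 1, 11, 27, 23, 28, 19, 28, 23, 28, 19, 28, 23, 28, 19, 28, 23, 28, 19, 28, 23, 28, 19, 28, 23, 28, 19, 28, 23, 28, 19, 28, 28, 11, 1, 28] 7 1 = true := by decide +kernel

theorem rel4_8 : U.rel 19 [31, 27, 1, 11, 27, 23, 28, 19, 28, 23, 28, 19, 28, 23, 28, 19, 28, 23, 28, 19, 28, 23, 28, 19, 28, 23, 28, 19, 28, 23, 28, 19, 28, 28, 11, 1, 28] 8 1 = true := by decide +kernel

theorem rel4_9 : U.rel 19 [31, 27, 1, 11, 27, 23, 28, 19, 28, 23, 28, 19, 28, 23, 28, 19, 28, 23, 28, 19, 28, 23, 28, 19, 28, 23, 28, 19, 28, 23, 28, 19, 28, 28, 11, 1, 28] 9 1 = true := by decide +kernel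

theorem rel4_10 : U.rel 19 [31, 27, 1, 11, 27, 23, 28, 19, 28, 23, 28, 19, 28, 23, 28, 19, 28, 23, 28, 19, 28, 23, 28, 19, 28, 23, 28, 19, 28, 23, 28, 19, 28, 28, 11, 1, 28] 10 1 = true := by decide +kernel

theorem rel4_11 : U.rel 19 [31, 27, 1, 11, 27, 23, 28, 19, 28, 23, 28, 19, 28, 23, 28, 19, 28, 23, 28, 19, 28, 23, 28, 19, 28, 23, 28, 19, 28, 23, 28, 19, 28, 28, 11, 1, 28] 11 1 = true := by decide +kernel

theorem rel4_12 : U.rel 19 [31, 27, 1, 11, 27, 23, 28, 19, 28, 23, 28, 19, 28, 23, 28, 19, 28, 23, 28, 19, 28, 23, 28, 19, 28, 23, 28, 19, 28, 23, 28, 19, 28, 28, 11, 1, 28] 12 1 = true := by decide +kernel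

theorem rel4_13 : U.rel 19 [31, 27, 1, 11, 27, 23, 28, 19, 28, 23, 28, 19, 28, 23, 28, 19, 28, 23, 28, 19, 28, 23, 28, 19, 28, 23, 28, 19, 28, 23, 28, 19, 28, 28, 11, 1, 28] 13 1 = true := by decide +kernel

theorem rel4_14 : U.rel 19 [31, 27, 1, 11, 27, 23, 28, 19, 28, 23, 28, 19, 28, 23, 28, 19, 28, 23, 28, 19, 28, 23, 28, 19, 28, 23, 28, 19, 28, 23, 28, 19, 28, 28, 11, 1, 28] 14 1 = true := by decide +kernel

theorem rel4_15 : U.rel 19 [31, 27, 1, 11, 27, 23, 28, 19, 28, 23, 28, 19, 28, 23, 28, 19, 28, 23, 28, 19, 28, 23, 28, 19, 28, 23, 28, 19, 28, 23, 28, 19, 28, 28, 11, 1, 28] 15 1 = true := by decide +kernel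

theorem rel4_16 : U.rel 19 [31, 27, 1, 11, 27, 23, 28, 19, 28, 23, 28, 19, 28, 23, 28, 19, 28, 23, 28, 19, 28, 23, 28, 19, 28, 23, 28, 19, 28, 23, 28, 19, 28, 28, 11, 1, 28] 16 1 = true := by decide +kernel

theorem rel4_17 : U.rel 19 [31, 27, 1, 11, 27, 23, 28, 19, 28, 23, 28, 19, 28, 23, 28, 19, 28, 23, 28, 19, 28, 23, 28, 19, 28, 23, 28, 19, 28, 23, 28, 19, 28, 28, 11, 1, 28] 17 1 = true := by decide +kernel

theorem rel4_18 : U.rel 19 [31, 27, 1, 11, 27, 23, 28, 19, 28, 23, 28, 19, 28, 23, 28, 19, 28, 23, 28, 19, 28, 23, 28, 19, 28, 23, 28, 19, 28, 23, 28, 19, 28, 28, 11, 1, 28] 18 1 = true := by decide +kernel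

theorem uok16 : Net.okb 19 un16 = true := by decide +kernel

theorem rel5_0 : U.rel 19 [33, 31, 30, 31, 30, 31, 30, 32, 30, 32, 30, 32, 30, 31, 30, 32, 30, 32, 30, 32, 30, 31, 30, 32, 30, 32, 30, 32, 30, 31, 30, 31, 30, 32, 30, 32, 30, 31, 30, 31, 30, 31, 30, 32, 30, 31, 30, 31, 30, 31, 30, 32, 30, 31, 30, 31, 30, 31, 30, 32, 30, 32, 30, 32] 0 1 = true := by decide +kernel

theorem rel5_1 : U.rel 19 [33, 31, 30, 31, 30, 31, 30, 32, 30, 32, 30, 32, 30, 31, 30, 32, 30, 32, 30, 32, 30, 31, 30, 32, 30, 32, 30, 32, 30, 31, 30, 31, 30, 32, 30, 32, 30, 31, 30, 31, 30, 31, 30, 32, 30, 31, 30, 31, 30, 31, 30, 32, 30, 31, 30, 31, 30, 31, 30, 32, 30, 32, 30, 32] 1 1 = true := by decide +kernel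

theorem rel5_2 : U.rel 19 [33, 31, 30, 31, 30, 31, 30, 32, 30, 32, 30, 32, 30, 31, 30, 32, 30, 32, 30, 32, 30, 31, 30, 32, 30, 32, 30, 32, 30, 31, 30, 31, 30, 32, 30, 32, 30, 31, 30, 31, 30, 31, 30, 32, 30, 31, 30, 31, 30, 31, 30, 32, 30, 31, 30, 31, 30, 31, 30, 32, 30, 32, 30, 32] 2 1 = true := by decide +kernel

theorem rel5_3 : U.rel 19 [33, 31, 30, 31, 30, 31, 30, 32, 30, 32, 30, 32, 30, 31, 30, 32, 30, 32, 30, 32, 30, 31, 30, 32, 30, 32, 30, 32, 30, 31, 30, 31, 30, 32, 30, 32, 30, 31, 30, 31, 30, 31, 30, 32, 30, 31, 30, 31, 30, 31, 30, 32, 30, 31, 30, 31, 30, 31, 30, 32, 30, 32, 30, 32] 3 1 = true := by decide +kernel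

theorem rel5_4 : U.rel 19 [33, 31, 30, 31, 30, 31, 30, 32, 30, 32, 30, 32, 30, 31, 30, 32, 30, 32, 30, 32, 30, 31, 30, 32, 30, 32, 30, 32, 30, 31, 30, 31, 30, 32, 30, 32, 30, 31, 30, 31, 30, 31, 30, 32, 30, 31, 30, 31, 30, 31, 30, 32, 30, 31, 30, 31, 30, 31, 30, 32, 30, 32, 30, 32] 4 1 = true := by decide +kernel

theorem rel5_5 : U.rel 19 [33, 31, 30, 31, 30, 31, 30, 32, 30, 32, 30, 32, 30, 31, 30, 32, 30, 32, 30, 32, 30, 31, 30, 32, 30, 32, 30, 32, 30, 31, 30, 31, 30, 32, 30, 32, 30, 31, 30, 31, 30, 31, 30, 32, 30, 31, 30, 31, 30, 31, 30, 32, 30, 31, 30, 31, 30, 31, 30, 32, 30, 32, 30, 32] 5 1 = true := by decide +kernel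

theorem rel5_6 : U.rel 19 [33, 31, 30, 31, 30, 31, 30, 32, 30, 32, 30, 32, 30, 31, 30, 32, 30, 32, 30, 32, 30, 31, 30, 32, 30, 32, 30, 32, 30, 31, 30, 31, 30, 32, 30, 32, 30, 31, 30, 31, 30, 31, 30, 32, 30, 31, 30, 31, 30, 31, 30, 32, 30, 31, 30, 31, 30, 31, 30, 32, 30, 32, 30, 32] 6 1 = true := by decide +kernel

theorem rel5_7 : U.rel 19 [33, 31, 30, 31, 30, 31, 30, 32, 30, 32, 30, 32, 30, 31, 30, 32, 30, 32, 30, 32, 30, 31, 30, 32, 30, 32, 30, 32, 30, 31, 30, 31, 30, 32, 30, 32, 30, 31, 30, 31, 30, 31, 30, 32, 30, 31, 30, 31, 30, 31, 30, 32, 30, 31, 30, 31, 30, 31, 30, 32, 30, 32, 30, 32] 7 1 = true := by decide +kernel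

theorem rel5_8 : U.rel 19 [33, 31, 30, 31, 30, 31, 30, 32, 30, 32, 30, 32, 30, 31, 30, 32, 30, 32, 30, 32, 30, 31, 30, 32, 30, 32, 30, 32, 30, 31, 30, 31, 30, 32, 30, 32, 30, 31, 30, 31, 30, 31, 30, 32, 30, 31, 30, 31, 30, 31, 30, 32, 30, 31, 30, 31, 30, 31, 30, 32, 30, 32, 30, 32] 8 1 = true := by decide +kernel

theorem rel5_9 : U.rel 19 [33, 31, 30, 31, 30, 31, 30, 32, 30, 32, 30, 32, 30, 31, 30, 32, 30, 32, 30, 32, 30, 31, 30, 32, 30, 32, 30, 32, 30, 31, 30, 31, 30, 32, 30, 32, 30, 31, 30, 31, 30, 31, 30, 32, 30, 31, 30, 31, 30, 31, 30, 32, 30, 31, 30, 31, 30, 31, 30, 32, 30, 32, 30, 32] 9 1 = true := by decide +kernel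

theorem rel5_10 : U.rel 19 [33, 31, 30, 31, 30, 31, 30, 32, 30, 32, 30, 32, 30, 31, 30, 32, 30, 32, 30, 32, 30, 31, 30, 32, 30, 32, 30, 32, 30, 31, 30, 31, 30, 32, 30, 32, 30, 31, 30, 31, 30, 31, 30, 32, 30, 31, 30, 31, 30, 31, 30, 32, 30, 31, 30, 31, 30, 31, 30, 32, 30, 32, 30, 32] 10 1 = true := by decide +kernel

theorem rel5_11 : U.rel 19 [33, 31, 30, 31, 30, 31, 30, 32, 30, 32, 30, 32, 30, 31, 30, 32, 30, 32, 30, 32, 30, 31, 30, 32, 30, 32, 30, 32, 30, 31, 30, 31, 30, 32, 30, 32, 30, 31, 30, 31, 30, 31, 30, 32, 30, 31, 30, 31, 30, 31, 30, 32, 30, 31, 30, 31, 30, 31, 30, 32, 30, 32, 30, 32] 11 1 = true := by decide +kernel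

theorem rel5_12 : U.rel 19 [33, 31, 30, 31, 30, 31, 30, 32, 30, 32, 30, 32, 30, 31, 30, 32, 30, 32, 30, 32, 30, 31, 30, 32, 30, 32, 30, 32, 30, 31, 30, 31, 30, 32, 30, 32, 30, 31, 30, 31, 30, 31, 30, 32, 30, 31, 30, 31, 30, 31, 30, 32, 30, 31, 30, 31, 30, 31, 30, 32, 30, 32, 30, 32] 12 1 = true := by decide +kernel

theorem rel5_13 : U.rel 19 [33, 31, 30, 31, 30, 31, 30, 32, 30, 32, 30, 32, 30, 31, 30, 32, 30, 32, 30, 32, 30, 31, 30, 32, 30, 32, 30, 32, 30, 31, 30, 31, 30, 32, 30, 32, 30, 31, 30, 31, 30, 31, 30, 32, 30, 31, 30, 31, 30, 31, 30, 32, 30, 31, 30, 31, 30, 31, 30, 32, 30, 32, 30, 32] 13 1 = true := by decide +kernel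

theorem rel5_14 : U.rel 19 [33, 31, 30, 31, 30, 31, 30, 32, 30, 32, 30, 32, 30, 31, 30, 32, 30, 32, 30, 32, 30, 31, 30, 32, 30, 32, 30, 32, 30, 31, 30, 31, 30, 32, 30, 32, 30, 31, 30, 31, 30, 31, 30, 32, 30, 31, 30, 31, 30, 31, 30, 32, 30, 31, 30, 31, 30, 31, 30, 32, 30, 32, 30, 32] 14 1 = true := by decide +kernel

theorem rel5_15 : U.rel 19 [33, 31, 30, 31, 30, 31, 30, 32, 30, 32, 30, 32, 30, 31, 30, 32, 30, 32, 30, 32, 30, 31, 30, 32, 30, 32, 30, 32, 30, 31, 30, 31, 30, 32, 30, 32, 30, 31, 30, 31, 30, 31, 30, 32, 30, 31, 30, 31, 30, 31, 30, 32, 30, 31, 30, 31, 30, 31, 30, 32, 30, 32, 30, 32] 15 1 = true := by decide +kernel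

theorem rel5_16 : U.rel 19 [33, 31, 30, 31, 30, 31, 30, 32, 30, 32, 30, 32, 30, 31, 30, 32, 30, 32, 30, 32, 30, 31, 30, 32, 30, 32, 30, 32, 30, 31, 30, 31, 30, 32, 30, 32, 30, 31, 30, 31, 30, 31, 30, 32, 30, 31, 30, 31, 30, 31, 30, 32, 30, 31, 30, 31, 30, 31, 30, 32, 30, 32, 30, 32] 16 1 = true := by decide +kernel

theorem rel5_17 : U.rel 19 [33, 31, 30, 31, 30, 31, 30, 32, 30, 32, 30, 32, 30, 31, 30, 32, 30, 32, 30, 32, 30, 31, 30, 32, 30, 32, 30, 32, 30, 31, 30, 31, 30, 32, 30, 32, 30, 31, 30, 31, 30, 31, 30, 32, 30, 31, 30, 31, 30, 31, 30, 32, 30, 31, 30, 31, 30, 31, 30, 32, 30, 32, 30, 32] 17 1 = true := by decide +kernel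

theorem rel5_18 : U.rel 19 [33, 31, 30, 31, 30, 31, 30, 32, 30, 32, 30, 32, 30, 31, 30, 32, 30, 32, 30, 32, 30, 31, 30, 32, 30, 32, 30, 32, 30, 31, 30, 31, 30, 32, 30, 32, 30, 31, 30, 31, 30, 31, 30, 32, 30, 31, 30, 31, 30, 31, 30, 32, 30, 31, 30, 31, 30, 31, 30, 32, 30, 32, 30, 32] 18 1 = true := by decide +kernel

theorem uok17 : Net.okb 19 un17 = true := by decide +kernel

theorem rel6_0 : U.rel 19 [35, 31, 30, 31, 30, 32, 30, 32, 30, 32, 30, 32, 30, 31, 30, 32, 30, 31, 30, 31, 30, 32, 30, 31, 30, 31, 30, 32, 30, 31, 30, 31, 30, 32, 30, 32, 30, 32, 30, 32, 30, 31, 30, 32, 30, 32, 30, 32, 30, 32, 30, 32, 30, 32, 30, 31, 30, 31, 30, 31, 30, 32, 30, 32, 30, 31, 30, 31, 30, 32, 30, 32] 0 1 = true := by decide +kernel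

theorem rel6_1 : U.rel 19 [35, 31, 30, 31, 30, 32, 30, 32, 30, 32, 30, 32, 30, 31, 30, 32, 30, 31, 30, 31, 30, 32, 30, 31, 30, 31, 30, 32, 30, 31, 30, 31, 30, 32, 30, 32, 30, 32, 30, 32, 30, 31, 30, 32, 30, 32, 30, 32, 30, 32, 30, 32, 30, 32, 30, 31, 30, 31, 30, 31, 30, 32, 30, 32, 30, 31, 30, 31, 30, 32, 30, 32] 1 1 = true := by decide +kernel

theorem rel6_2 : U.rel 19 [35, 31, 30, 31, 30, 32, 30, 32, 30, 32, 30, 32, 30, 31, 30, 32, 30, 31, 30, 31, 30, 32, 30, 31, 30, 31, 30, 32, 30, 31, 30, 31, 30, 32, 30, 32, 30, 32, 30, 32, 30, 31, 30, 32, 30, 32, 30, 32, 30, 32, 30, 32, 30, 32, 30, 31, 30, 31, 30, 31, 30, 32, 30, 32, 30, 31, 30, 31, 30, 32, 30, 32] 2 1 = true := by decide +kernel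

theorem rel6_3 : U.rel 19 [35, 31, 30, 31, 30, 32, 30, 32, 30, 32, 30, 32, 30, 31, 30, 32, 30, 31, 30, 31, 30, 32, 30, 31, 30, 31, 30, 32, 30, 31, 30, 31, 30, 32, 30, 32, 30, 32, 30, 32, 30, 31, 30, 32, 30, 32, 30, 32, 30, 32, 30, 32, 30, 32, 30, 31, 30, 31, 30, 31, 30, 32, 30, 32, 30, 31, 30, 31, 30, 32, 30, 32] 3 1 = true := by decide +kernel

theorem rel6_4 : U.rel 19 [35, 31, 30, 31, 30, 32, 30, 32, 30, 32, 30, 32, 30, 31, 30, 32, 30, 31, 30, 31, 30, 32, 30, 31, 30, 31, 30, 32, 30, 31, 30, 31, 30, 32, 30, 32, 30, 32, 30, 32, 30, 31, 30, 32, 30, 32, 30, 32, 30, 32, 30, 32, 30, 32, 30, 31, 30, 31, 30, 31, 30, 32, 30, 32, 30, 31, 30, 31, 30, 32, 30, 32] 4 1 = true := by decide +kernel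

theorem rel6_5 : U.rel 19 [35, 31, 30, 31, 30, 32, 30, 32, 30, 32, 30, 32, 30, 31, 30, 32, 30, 31, 30, 31, 30, 32, 30, 31, 30, 31, 30, 32, 30, 31, 30, 31, 30, 32, 30, 32, 30, 32, 30, 32, 30, 31, 30, 32, 30, 32, 30, 32, 30, 32, 30, 32, 30, 32, 30, 31, 30, 31, 30, 31, 30, 32, 30, 32, 30, 31, 30, 31, 30, 32, 30, 32] 5 1 = true := by decide +kernel

theorem rel6_6 : U.rel 19 [35, 31, 30, 31, 30, 32, 30, 32, 30, 32, 30, 32, 30, 31, 30, 32, 30, 31, 30, 31, 30, 32, 30, 31, 30, 31, 30, 32, 30, 31, 30, 31, 30, 32, 30, 32, 30, 32, 30, 32, 30, 31, 30, 32, 30, 32, 30, 32, 30, 32, 30, 32, 30, 32, 30, 31, 30, 31, 30, 31, 30, 32, 30, 32, 30, 31, 30, 31, 30, 32, 30, 32] 6 1 = true := by decide +kernel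

theorem rel6_7 : U.rel 19 [35, 31, 30, 31, 30, 32, 30, 32, 30, 32, 30, 32, 30, 31, 30, 32, 30, 31, 30, 31, 30, 32, 30, 31, 30, 31, 30, 32, 30, 31, 30, 31, 30, 32, 30, 32, 30, 32, 30, 32, 30, 31, 30, 32, 30, 32, 30, 32, 30, 32, 30, 32, 30, 32, 30, 31, 30, 31, 30, 31, 30, 32, 30, 32, 30, 31, 30, 31, 30, 32, 30, 32] 7 1 = true := by decide +kernel

theorem rel6_8 : U.rel 19 [35, 31, 30, 31, 30, 32, 30, 32, 30, 32, 30, 32, 30, 31, 30, 32, 30, 31, 30, 31, 30, 32, 30, 31, 30, 31, 30, 32, 30, 31, 30, 31, 30, 32, 30, 32, 30, 32, 30, 32, 30, 31, 30, 32, 30, 32, 30, 32, 30, 32, 30, 32, 30, 32, 30, 31, 30, 31, 30, 31, 30, 32, 30, 32, 30, 31, 30, 31, 30, 32, 30, 32] 8 1 = true := by decide +kernel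

theorem rel6_9 : U.rel 19 [35, 31, 30, 31, 30, 32, 30, 32, 30, 32, 30, 32, 30, 31, 30, 32, 30, 31, 30, 31, 30, 32, 30, 31, 30, 31, 30, 32, 30, 31, 30, 31, 30, 32, 30, 32, 30, 32, 30, 32, 30, 31, 30, 32, 30, 32, 30, 32, 30, 32, 30, 32, 30, 32, 30, 31, 30, 31, 30, 31, 30, 32, 30, 32, 30, 31, 30, 31, 30, 32, 30, 32] 9 1 = true := by decide +kernel

theorem rel6_10 : U.rel 19 [35, 31, 30, 31, 30, 32, 30, 32, 30, 32, 30, 32, 30, 31, 30, 32, 30, 31, 30, 31, 30, 32, 30, 31, 30, 31, 30, 32, 30, 31, 30, 31, 30, 32, 30, 32, 30, 32, 30, 32, 30, 31, 30, 32, 30, 32, 30, 32, 30, 32, 30, 32, 30, 32, 30, 31, 30, 31, 30, 31, 30, 32, 30, 32, 30, 31, 30, 31, 30, 32, 30, 32] 10 1 = true := by decide +kernel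

theorem rel6_11 : U.rel 19 [35, 31, 30, 31, 30, 32, 30, 32, 30, 32, 30, 32, 30, 31, 30, 32, 30, 31, 30, 31, 30, 32, 30, 31, 30, 31, 30, 32, 30, 31, 30, 31, 30, 32, 30, 32, 30, 32, 30, 32, 30, 31, 30, 32, 30, 32, 30, 32, 30, 32, 30, 32, 30, 32, 30, 31, 30, 31, 30, 31, 30, 32, 30, 32, 30, 31, 30, 31, 30, 32, 30, 32] 11 1 = true := by decide +kernel

theorem rel6_12 : U.rel 19 [35, 31, 30, 31, 30, 32, 30, 32, 30, 32, 30, 32, 30, 31, 30, 32, 30, 31, 30, 31, 30, 32, 30, 31, 30, 31, 30, 32, 30, 31, 30, 31, 30, 32, 30, 32, 30, 32, 30, 32, 30, 31, 30, 32, 30, 32, 30, 32, 30, 32, 30, 32, 30, 32, 30, 31, 30, 31, 30, 31, 30, 32, 30, 32, 30, 31, 30, 31, 30, 32, 30, 32] 12 1 = true := by decide +kernel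

theorem rel6_13 : U.rel 19 [35, 31, 30, 31, 30, 32, 30, 32, 30, 32, 30, 32, 30, 31, 30, 32, 30, 31, 30, 31, 30, 32, 30, 31, 30, 31, 30, 32, 30, 31, 30, 31, 30, 32, 30, 32, 30, 32, 30, 32, 30, 31, 30, 32, 30, 32, 30, 32, 30, 32, 30, 32, 30, 32, 30, 31, 30, 31, 30, 31, 30, 32, 30, 32, 30, 31, 30, 31, 30, 32, 30, 32] 13 1 = true := by decide +kernel

theorem rel6_14 : U.rel 19 [35, 31, 30, 31, 30, 32, 30, 32, 30, 32, 30, 32, 30, 31, 30, 32, 30, 31, 30, 31, 30, 32, 30, 31, 30, 31, 30, 32, 30, 31, 30, 31, 30, 32, 30, 32, 30, 32, 30, 32, 30, 31, 30, 32, 30, 32, 30, 32, 30, 32, 30, 32, 30, 32, 30, 31, 30, 31, 30, 31, 30, 32, 30, 32, 30, 31, 30, 31, 30, 32, 30, 32] 14 1 = true := by decide +kernel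

theorem rel6_15 : U.rel 19 [35, 31, 30, 31, 30, 32, 30, 32, 30, 32, 30, 32, 30, 31, 30, 32, 30, 31, 30, 31, 30, 32, 30, 31, 30, 31, 30, 32, 30, 31, 30, 31, 30, 32, 30, 32, 30, 32, 30, 32, 30, 31, 30, 32, 30, 32, 30, 32, 30, 32, 30, 32, 30, 32, 30, 31, 30, 31, 30, 31, 30, 32, 30, 32, 30, 31, 30, 31, 30, 32, 30, 32] 15 1 = true := by decide +kernel

theorem rel6_16 : U.rel 19 [35, 31, 30, 31, 30, 32, 30, 32, 30, 32, 30, 32, 30, 31, 30, 32, 30, 31, 30, 31, 30, 32, 30, 31, 30, 31, 30, 32, 30, 31, 30, 31, 30, 32, 30, 32, 30, 32, 30, 32, 30, 31, 30, 32, 30, 32, 30, 32, 30, 32, 30, 32, 30, 32, 30, 31, 30, 31, 30, 31, 30, 32, 30, 32, 30, 31, 30, 31, 30, 32, 30, 32] 16 1 = true := by decide +kernel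

theorem rel6_17 : U.rel 19 [35, 31, 30, 31, 30, 32, 30, 32, 30, 32, 30, 32, 30, 31, 30, 32, 30, 31, 30, 31, 30, 32, 30, 31, 30, 31, 30, 32, 30, 31, 30, 31, 30, 32, 30, 32, 30, 32, 30, 32, 30, 31, 30, 32, 30, 32, 30, 32, 30, 32, 30, 32, 30, 32, 30, 31, 30, 31, 30, 31, 30, 32, 30, 32, 30, 31, 30, 31, 30, 32, 30, 32] 17 1 = true := by decide +kernel

theorem rel6_18 : U.rel 19 [35, 31, 30, 31, 30, 32, 30, 32, 30, 32, 30, 32, 30, 31, 30, 32, 30, 31, 30, 31, 30, 32, 30, 31, 30, 31, 30, 32, 30, 31, 30, 31, 30, 32, 30, 32, 30, 32, 30, 32, 30, 31, 30, 32, 30, 32, 30, 32, 30, 32, 30, 32, 30, 32, 30, 31, 30, 31, 30, 31, 30, 32, 30, 32, 30, 31, 30, 31, 30, 32, 30, 32] 18 1 = true := by decide +kernel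

theorem uok18 : Net.okb 19 un18 = true := by decide +kernel

theorem rel7_0 : U.rel 19 [37, 31, 30, 31, 30, 31, 30, 31, 30, 32, 30, 32, 30, 31, 30, 32, 30, 32, 30, 31, 30, 32, 30, 31, 30, 31, 30, 31, 30, 32, 30, 32, 30, 32, 30, 31, 30, 31, 30, 32, 30, 31, 30, 32, 30, 32, 30, 31, 30, 32, 30, 32, 30, 32, 30, 32, 30, 32, 30, 31, 30, 31, 30, 31, 30, 32, 30] 0 1 = true := by decide +kernel

theorem rel7_1 : U.rel 19 [37, 31, 30, 31, 30, 31, 30, 31, 30, 32, 30, 32, 30, 31, 30, 32, 30, 32, 30, 31, 30, 32, 30, 31, 30, 31, 30, 31, 30, 32, 30, 32, 30, 32, 30, 31, 30, 31, 30, 32, 30, 31, 30, 32, 30, 32, 30, 31, 30, 32, 30, 32, 30, 32, 30, 32, 30, 32, 30, 31, 30, 31, 30, 31, 30, 32, 30] 1 1 = true := by decide +kernel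

theorem rel7_2 : U.rel 19 [37, 31, 30, 31, 30, 31, 30, 31, 30, 32, 30, 32, 30, 31, 30, 32, 30, 32, 30, 31, 30, 32, 30, 31, 30, 31, 30, 31, 30, 32, 30, 32, 30, 32, 30, 31, 30, 31, 30, 32, 30, 31, 30, 32, 30, 32, 30, 31, 30, 32, 30, 32, 30, 32, 30, 32, 30, 32, 30, 31, 30, 31, 30, 31, 30, 32, 30] 2 1 = true := by decide +kernel

theorem rel7_3 : U.rel 19 [37, 31, 30, 31, 30, 31, 30, 31, 30, 32, 30, 32, 30, 31, 30, 32, 30, 32, 30, 31, 30, 32, 30, 31, 30, 31, 30, 31, 30, 32, 30, 32, 30, 32, 30, 31, 30, 31, 30, 32, 30, 31, 30, 32, 30, 32, 30, 31, 30, 32, 30, 32, 30, 32, 30, 32, 30, 32, 30, 31, 30, 31, 30, 31, 30, 32, 30] 3 1 = true := by decide +kernel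

theorem rel7_4 : U.rel 19 [37, 31, 30, 31, 30, 31, 30, 31, 30, 32, 30, 32, 30, 31, 30, 32, 30, 32, 30, 31, 30, 32, 30, 31, 30, 31, 30, 31, 30, 32, 30, 32, 30, 32, 30, 31, 30, 31, 30, 32, 30, 31, 30, 32, 30, 32, 30, 31, 30, 32, 30, 32, 30, 32, 30, 32, 30, 32, 30, 31, 30, 31, 30, 31, 30, 32, 30] 4 1 = true := by decide +kernel

theorem rel7_5 : U.rel 19 [37, 31, 30, 31, 30, 31, 30, 31, 30, 32, 30, 32, 30, 31, 30, 32, 30, 32, 30, 31, 30, 32, 30, 31, 30, 31, 30, 31, 30, 32, 30, 32, 30, 32, 30, 31, 30, 31, 30, 32, 30, 31, 30, 32, 30, 32, 30, 31, 30, 32, 30, 32, 30, 32, 30, 32, 30, 32, 30, 31, 30, 31, 30, 31, 30, 32, 30] 5 1 = true := by decide +kernel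

theorem rel7_6 : U.rel 19 [37, 31, 30, 31, 30, 31, 30, 31, 30, 32, 30, 32, 30, 31, 30, 32, 30, 32, 30, 31, 30, 32, 30, 31, 30, 31, 30, 31, 30, 32, 30, 32, 30, 32, 30, 31, 30, 31, 30, 32, 30, 31, 30, 32, 30, 32, 30, 31, 30, 32, 30, 32, 30, 32, 30, 32, 30, 32, 30, 31, 30, 31, 30, 31, 30, 32, 30] 6 1 = true := by decide +kernel

theorem rel7_7 : U.rel 19 [37, 31, 30, 31, 30, 31, 30, 31, 30, 32, 30, 32, 30, 31, 30, 32, 30, 32, 30, 31, 30, 32, 30, 31, 30, 31, 30, 31, 30, 32, 30, 32, 30, 32, 30, 31, 30, 31, 30, 32, 30, 31, 30, 32, 30, 32, 30, 31, 30, 32, 30, 32, 30, 32, 30, 32, 30, 32, 30, 31, 30, 31, 30, 31, 30, 32, 30] 7 1 = true := by decide +kernel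

theorem rel7_8 : U.rel 19 [37, 31, 30, 31, 30, 31, 30, 31, 30, 32, 30, 32, 30, 31, 30, 32, 30, 32, 30, 31, 30, 32, 30, 31, 30, 31, 30, 31, 30, 32, 30, 32, 30, 32, 30, 31, 30, 31, 30, 32, 30, 31, 30, 32, 30, 32, 30, 31, 30, 32, 30, 32, 30, 32, 30, 32, 30, 32, 30, 31, 30, 31, 30, 31, 30, 32, 30] 8 1 = true := by decide +kernel

theorem rel7_9 : U.rel 19 [37, 31, 30, 31, 30, 31, 30, 31, 30, 32, 30, 32, 30, 31, 30, 32, 30, 32, 30, 31, 30, 32, 30, 31, 30, 31, 30, 31, 30, 32, 30, 32, 30, 32, 30, 31, 30, 31, 30, 32, 30, 31, 30, 32, 30, 32, 30, 31, 30, 32, 30, 32, 30, 32, 30, 32, 30, 32, 30, 31, 30, 31, 30, 31, 30, 32, 30] 9 1 = true := by decide +kernel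

theorem rel7_10 : U.rel 19 [37, 31, 30, 31, 30, 31, 30, 31, 30, 32, 30, 32, 30, 31, 30, 32, 30, 32, 30, 31, 30, 32, 30, 31, 30, 31, 30, 31, 30, 32, 30, 32, 30, 32, 30, 31, 30, 31, 30, 32, 30, 31, 30, 32, 30, 32, 30, 31, 30, 32, 30, 32, 30, 32, 30, 32, 30, 32, 30, 31, 30, 31, 30, 31, 30, 32, 30] 10 1 = true := by decide +kernel

theorem rel7_11 : U.rel 19 [37, 31, 30, 31, 30, 31, 30, 31, 30, 32, 30, 32, 30, 31, 30, 32, 30, 32, 30, 31, 30, 32, 30, 31, 30, 31, 30, 31, 30, 32, 30, 32, 30, 32, 30, 31, 30, 31, 30, 32, 30, 31, 30, 32, 30, 32, 30, 31, 30, 32, 30, 32, 30, 32, 30, 32, 30, 32, 30, 31, 30, 31, 30, 31, 30, 32, 30] 11 1 = true := by decide +kernel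

theorem rel7_12 : U.rel 19 [37, 31, 30, 31, 30, 31, 30, 31, 30, 32, 30, 32, 30, 31, 30, 32, 30, 32, 30, 31, 30, 32, 30, 31, 30, 31, 30, 31, 30, 32, 30, 32, 30, 32, 30, 31, 30, 31, 30, 32, 30, 31, 30, 32, 30, 32, 30, 31, 30, 32, 30, 32, 30, 32, 30, 32, 30, 32, 30, 31, 30, 31, 30, 31, 30, 32, 30] 12 1 = true := by decide +kernel

theorem rel7_13 : U.rel 19 [37, 31, 30, 31, 30, 31, 30, 31, 30, 32, 30, 32, 30, 31, 30, 32, 30, 32, 30, 31, 30, 32, 30, 31, 30, 31, 30, 31, 30, 32, 30, 32, 30, 32, 30, 31, 30, 31, 30, 32, 30, 31, 30, 32, 30, 32, 30, 31, 30, 32, 30, 32, 30, 32, 30, 32, 30, 32, 30, 31, 30, 31, 30, 31, 30, 32, 30] 13 1 = true := by decide +kernel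

theorem rel7_14 : U.rel 19 [37, 31, 30, 31, 30, 31, 30, 31, 30, 32, 30, 32, 30, 31, 30, 32, 30, 32, 30, 31, 30, 32, 30, 31, 30, 31, 30, 31, 30, 32, 30, 32, 30, 32, 30, 31, 30, 31, 30, 32, 30, 31, 30, 32, 30, 32, 30, 31, 30, 32, 30, 32, 30, 32, 30, 32, 30, 32, 30, 31, 30, 31, 30, 31, 30, 32, 30] 14 1 = true := by decide +kernel

theorem rel7_15 : U.rel 19 [37, 31, 30, 31, 30, 31, 30, 31, 30, 32, 30, 32, 30, 31, 30, 32, 30, 32, 30, 31, 30, 32, 30, 31, 30, 31, 30, 31, 30, 32, 30, 32, 30, 32, 30, 31, 30, 31, 30, 32, 30, 31, 30, 32, 30, 32, 30, 31, 30, 32, 30, 32, 30, 32, 30, 32, 30, 32, 30, 31, 30, 31, 30, 31, 30, 32, 30] 15 1 = true := by decide +kernel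

theorem rel7_16 : U.rel 19 [37, 31, 30, 31, 30, 31, 30, 31, 30, 32, 30, 32, 30, 31, 30, 32, 30, 32, 30, 31, 30, 32, 30, 31, 30, 31, 30, 31, 30, 32, 30, 32, 30, 32, 30, 31, 30, 31, 30, 32, 30, 31, 30, 32, 30, 32, 30, 31, 30, 32, 30, 32, 30, 32, 30, 32, 30, 32, 30, 31, 30, 31, 30, 31, 30, 32, 30] 16 1 = true := by decide +kernel

theorem rel7_17 : U.rel 19 [37, 31, 30, 31, 30, 31, 30, 31, 30, 32, 30, 32, 30, 31, 30, 32, 30, 32, 30, 31, 30, 32, 30, 31, 30, 31, 30, 31, 30, 32, 30, 32, 30, 32, 30, 31, 30, 31, 30, 32, 30, 31, 30, 32, 30, 32, 30, 31, 30, 32, 30, 32, 30, 32, 30, 32, 30, 32, 30, 31, 30, 31, 30, 31, 30, 32, 30] 17 1 = true := by decide +kernel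

theorem rel7_18 : U.rel 19 [37, 31, 30, 31, 30, 31, 30, 31, 30, 32, 30, 32, 30, 31, 30, 32, 30, 32, 30, 31, 30, 32, 30, 31, 30, 31, 30, 31, 30, 32, 30, 32, 30, 32, 30, 31, 30, 31, 30, 32, 30, 31, 30, 32, 30, 32, 30, 31, 30, 32, 30, 32, 30, 32, 30, 32, 30, 32, 30, 31, 30, 31, 30, 31, 30, 32, 30] 18 1 = true := by decide +kernel

theorem uok19 : Net.okb 19 un19 = true := by decide +kernel

theorem rel8_0 : U.rel 19 [39, 32, 30, 31, 30, 31, 30, 31, 30, 32, 30, 32, 30, 32, 30, 32, 30, 32, 30, 31, 30, 32, 30, 32, 30, 31, 30, 32, 30, 31, 30, 31, 30, 32, 30, 32, 30, 32, 30, 31, 30, 31, 30, 31, 30, 32, 30, 31, 30, 32, 30, 32, 30, 31, 30, 32, 30, 32, 30, 31, 30, 31, 30, 31, 30, 31, 30] 0 1 = true := by decide +kernel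

theorem rel8_1 : U.rel 19 [39, 32, 30, 31, 30, 31, 30, 31, 30, 32, 30, 32, 30, 32, 30, 32, 30, 32, 30, 31, 30, 32, 30, 32, 30, 31, 30, 32, 30, 31, 30, 31, 30, 32, 30, 32, 30, 32, 30, 31, 30, 31, 30, 31, 30, 32, 30, 31, 30, 32, 30, 32, 30, 31, 30, 32, 30, 32, 30, 31, 30, 31, 30, 31, 30, 31, 30] 1 1 = true := by decide +kernel

theorem rel8_2 : U.rel 19 [39, 32, 30, 31, 30, 31, 30, 31, 30, 32, 30, 32, 30, 32, 30, 32, 30, 32, 30, 31, 30, 32, 30, 32, 30, 31, 30, 32, 30, 31, 30, 31, 30, 32, 30, 32, 30, 32, 30, 31, 30, 31, 30, 31, 30, 32, 30, 31, 30, 32, 30, 32, 30, 31, 30, 32, 30, 32, 30, 31, 30, 31, 30, 31, 30, 31, 30] 2 1 = true := by decide +kernel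

theorem rel8_3 : U.rel 19 [39, 32, 30, 31, 30, 31, 30, 31, 30, 32, 30, 32, 30, 32, 30, 32, 30, 32, 30, 31, 30, 32, 30, 32, 30, 31, 30, 32, 30, 31, 30, 31, 30, 32, 30, 32, 30, 32, 30, 31, 30, 31, 30, 31, 30, 32, 30, 31, 30, 32, 30, 32, 30, 31, 30, 32, 30, 32, 30, 31, 30, 31, 30, 31, 30, 31, 30] 3 1 = true := by decide +kernel

theorem rel8_4 : U.rel 19 [39, 32, 30, 31, 30, 31, 30, 31, 30, 32, 30, 32, 30, 32, 30, 32, 30, 32, 30, 31, 30, 32, 30, 32, 30, 31, 30, 32, 30, 31, 30, 31, 30, 32, 30, 32, 30, 32, 30, 31, 30, 31, 30, 31, 30, 32, 30, 31, 30, 32, 30, 32, 30, 31, 30, 32, 30, 32, 30, 31, 30, 31, 30, 31, 30, 31, 30] 4 1 = true := by decide +kernel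

theorem rel8_5 : U.rel 19 [39, 32, 30, 31, 30, 31, 30, 31, 30, 32, 30, 32, 30, 32, 30, 32, 30, 32, 30, 31, 30, 32, 30, 32, 30, 31, 30, 32, 30, 31, 30, 31, 30, 32, 30, 32, 30, 32, 30, 31, 30, 31, 30, 31, 30, 32, 30, 31, 30, 32, 30, 32, 30, 31, 30, 32, 30, 32, 30, 31, 30, 31, 30, 31, 30, 31, 30] 5 1 = true := by decide +kernel

theorem rel8_6 : U.rel 19 [39, 32, 30, 31, 30, 31, 30, 31, 30, 32, 30, 32, 30, 32, 30, 32, 30, 32, 30, 31, 30, 32, 30, 32, 30, 31, 30, 32, 30, 31, 30, 31, 30, 32, 30, 32, 30, 32, 30, 31, 30, 31, 30, 31, 30, 32, 30, 31, 30, 32, 30, 32, 30, 31, 30, 32, 30, 32, 30, 31, 30, 31, 30, 31, 30, 31, 30] 6 1 = true := by decide +kernel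

theorem rel8_7 : U.rel 19 [39, 32, 30, 31, 30, 31, 30, 31, 30, 32, 30, 32, 30, 32, 30, 32, 30, 32, 30, 31, 30, 32, 30, 32, 30, 31, 30, 32, 30, 31, 30, 31, 30, 32, 30, 32, 30, 32, 30, 31, 30, 31, 30, 31, 30, 32, 30, 31, 30, 32, 30, 32, 30, 31, 30, 32, 30, 32, 30, 31, 30, 31, 30, 31, 30, 31, 30] 7 1 = true := by decide +kernel

theorem rel8_8 : U.rel 19 [39, 32, 30, 31, 30, 31, 30, 31, 30, 32, 30, 32, 30, 32, 30, 32, 30, 32, 30, 31, 30, 32, 30, 32, 30, 31, 30, 32, 30, 31, 30, 31, 30, 32, 30, 32, 30, 32, 30, 31, 30, 31, 30, 31, 30, 32, 30, 31, 30, 32, 30, 32, 30, 31, 30, 32, 30, 32, 30, 31, 30, 31, 30, 31, 30, 31, 30] 8 1 = true := by decide +kernel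

theorem rel8_9 : U.rel 19 [39, 32, 30, 31, 30, 31, 30, 31, 30, 32, 30, 32, 30, 32, 30, 32, 30, 32, 30, 31, 30, 32, 30, 32, 30, 31, 30, 32, 30, 31, 30, 31, 30, 32, 30, 32, 30, 32, 30, 31, 30, 31, 30, 31, 30, 32, 30, 31, 30, 32, 30, 32, 30, 31, 30, 32, 30, 32, 30, 31, 30, 31, 30, 31, 30, 31, 30] 9 1 = true := by decide +kernel

theorem rel8_10 : U.rel 19 [39, 32, 30, 31, 30, 31, 30, 31, 30, 32, 30, 32, 30, 32, 30, 32, 30, 32, 30, 31, 30, 32, 30, 32, 30, 31, 30, 32, 30, 31, 30, 31, 30, 32, 30, 32, 30, 32, 30, 31, 30, 31, 30, 31, 30, 32, 30, 31, 30, 32, 30, 32, 30, 31, 30, 32, 30, 32, 30, 31, 30, 31, 30, 31, 30, 31, 30] 10 1 = true := by decide +kernel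

theorem rel8_11 : U.rel 19 [39, 32, 30, 31, 30, 31, 30, 31, 30, 32, 30, 32, 30, 32, 30, 32, 30, 32, 30, 31, 30, 32, 30, 32, 30, 31, 30, 32, 30, 31, 30, 31, 30, 32, 30, 32, 30, 32, 30, 31, 30, 31, 30, 31, 30, 32, 30, 31, 30, 32, 30, 32, 30, 31, 30, 32, 30, 32, 30, 31, 30, 31, 30, 31, 30, 31, 30] 11 1 = true := by decide +kernel

theorem rel8_12 : U.rel 19 [39, 32, 30, 31, 30, 31, 30, 31, 30, 32, 30, 32, 30, 32, 30, 32, 30, 32, 30, 31, 30, 32, 30, 32, 30, 31, 30, 32, 30, 31, 30, 31, 30, 32, 30, 32, 30, 32, 30, 31, 30, 31, 30, 31, 30, 32, 30, 31, 30, 32, 30, 32, 30, 31, 30, 32, 30, 32, 30, 31, 30, 31, 30, 31, 30, 31, 30] 12 1 = true := by decide +kernel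

theorem rel8_13 : U.rel 19 [39, 32, 30, 31, 30, 31, 30, 31, 30, 32, 30, 32, 30, 32, 30, 32, 30, 32, 30, 31, 30, 32, 30, 32, 30, 31, 30, 32, 30, 31, 30, 31, 30, 32, 30, 32, 30, 32, 30, 31, 30, 31, 30, 31, 30, 32, 30, 31, 30, 32, 30, 32, 30, 31, 30, 32, 30, 32, 30, 31, 30, 31, 30, 31, 30, 31, 30] 13 1 = true := by decide +kernel

theorem rel8_14 : U.rel 19 [39, 32, 30, 31, 30, 31, 30, 31, 30, 32, 30, 32, 30, 32, 30, 32, 30, 32, 30, 31, 30, 32, 30, 32, 30, 31, 30, 32, 30, 31, 30, 31, 30, 32, 30, 32, 30, 32, 30, 31, 30, 31, 30, 31, 30, 32, 30, 31, 30, 32, 30, 32, 30, 31, 30, 32, 30, 32, 30, 31, 30, 31, 30, 31, 30, 31, 30] 14 1 = true := by decide +kernel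

theorem rel8_15 : U.rel 19 [39, 32, 30, 31, 30, 31, 30, 31, 30, 32, 30, 32, 30, 32, 30, 32, 30, 32, 30, 31, 30, 32, 30, 32, 30, 31, 30, 32, 30, 31, 30, 31, 30, 32, 30, 32, 30, 32, 30, 31, 30, 31, 30, 31, 30, 32, 30, 31, 30, 32, 30, 32, 30, 31, 30, 32, 30, 32, 30, 31, 30, 31, 30, 31, 30, 31, 30] 15 1 = true := by decide +kernel

theorem rel8_16 : U.rel 19 [39, 32, 30, 31, 30, 31, 30, 31, 30, 32, 30, 32, 30, 32, 30, 32, 30, 32, 30, 31, 30, 32, 30, 32, 30, 31, 30, 32, 30, 31, 30, 31, 30, 32, 30, 32, 30, 32, 30, 31, 30, 31, 30, 31, 30, 32, 30, 31, 30, 32, 30, 32, 30, 31, 30, 32, 30, 32, 30, 31, 30, 31, 30, 31, 30, 31, 30] 16 1 = true := by decide +kernel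

theorem rel8_17 : U.rel 19 [39, 32, 30, 31, 30, 31, 30, 31, 30, 32, 30, 32, 30, 32, 30, 32, 30, 32, 30, 31, 30, 32, 30, 32, 30, 31, 30, 32, 30, 31, 30, 31, 30, 32, 30, 32, 30, 32, 30, 31, 30, 31, 30, 31, 30, 32, 30, 31, 30, 32, 30, 32, 30, 31, 30, 32, 30, 32, 30, 31, 30, 31, 30, 31, 30, 31, 30] 17 1 = true := by decide +kernel

theorem rel8_18 : U.rel 19 [39, 32, 30, 31, 30, 31, 30, 31, 30, 32, 30, 32, 30, 32, 30, 32, 30, 32, 30, 31, 30, 32, 30, 32, 30, 31, 30, 32, 30, 31, 30, 31, 30, 32, 30, 32, 30, 32, 30, 31, 30, 31, 30, 31, 30, 32, 30, 31, 30, 32, 30, 32, 30, 31, 30, 32, 30, 32, 30, 31, 30, 31, 30, 31, 30, 31, 30] 18 1 = true := by decide +kernel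

theorem rel9 : U.rel 19 [33, 33] 0 19 = true := by decide +kernel

theorem rel10 : U.rel 19 [29, 29] 0 19 = true := by decide +kernel

theorem rel11 : U.rel 19 [35, 35] 0 19 = true := by decide +kernel

theorem rel12 : U.rel 19 [37, 37] 0 19 = true := by decide +kernel

theorem rel13 : U.rel 19 [39, 39] 0 19 = true := by decide +kernel

theorem rel14_0 : U.rel 19 [35, 33, 35, 33] 0 12 = true := by decide +kernel

theorem rel14_12 : U.rel 19 [35, 33, 35, 33] 12 7 = true := by decide +kernel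

theorem rel15_0 : U.rel 19 [37, 33, 37, 33] 0 12 = true := by decide +kernel

theorem rel15_12 : U.rel 19 [37, 33, 37, 33] 12 7 = true := by decide +kernel

theorem rel16_0 : U.rel 19 [39, 33, 39, 33] 0 12 = true := by decide +kernel

theorem rel16_12 : U.rel 19 [39, 33, 39, 33] 12 7 = true := by decide +kernel

theorem rel17_0 : U.rel 19 [37, 29, 37, 29] 0 12 = true := by decide +kernel

theorem rel17_12 : U.rel 19 [37, 29, 37, 29] 12 7 = true := by decide +kernel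

theorem rel18_0 : U.rel 19 [39, 29, 39, 29] 0 12 = true := by decide +kernel

theorem rel18_12 : U.rel 19 [39, 29, 39, 29] 12 7 = true := by decide +kernel

theorem rel19_0 : U.rel 19 [29, 33, 29, 33, 29, 33] 0 8 = true := by decide +kernel

theorem rel19_8 : U.rel 19 [29, 33, 29, 33, 29, 33] 8 8 = true := by decide +kernel

theorem rel19_16 : U.rel 19 [29, 33, 29, 33, 29, 33] 16 3 = true := by decide +kernel

theorem rel20_0 : U.rel 19 [37, 35, 37, 35, 37, 35] 0 8 = true := by decide +kernel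

theorem rel20_8 : U.rel 19 [37, 35, 37, 35, 37, 35] 8 8 = true := by decide +kernel

theorem rel20_16 : U.rel 19 [37, 35, 37, 35, 37, 35] 16 3 = true := by decide +kernel

theorem rel21_0 : U.rel 19 [39, 35, 39, 35, 39, 35] 0 8 = true := by decide +kernel

theorem rel21_8 : U.rel 19 [39, 35, 39, 35, 39, 35] 8 8 = true := by decide +kernel

theorem rel21_16 : U.rel 19 [39, 35, 39, 35, 39, 35] 16 3 = true := by decide +kernel

theorem rel22_0 : U.rel 19 [39, 37, 39, 37, 39, 37, 39, 37] 0 6 = true := by decide +kernel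

theorem rel22_6 : U.rel 19 [39, 37, 39, 37, 39, 37, 39, 37] 6 6 = true := by decide +kernel

theorem rel22_12 : U.rel 19 [39, 37, 39, 37, 39, 37, 39, 37] 12 6 = true := by decide +kernel

theorem rel22_18 : U.rel 19 [39, 37, 39, 37, 39, 37, 39, 37] 18 1 = true := by decide +kernel

theorem rel23_0 : U.rel 19 [39, 37, 39, 37, 33, 39, 37, 39, 37, 33] 0 4 = true := by decide +kernel

theorem rel23_4 : U.rel 19 [39, 37, 39, 37, 33, 39, 37, 39, 37, 33] 4 4 = true := by decide +kernel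

theorem rel23_8 : U.rel 19 [39, 37, 39, 37, 33, 39, 37, 39, 37, 33] 8 4 = true := by decide +kernel

theorem rel23_12 : U.rel 19 [39, 37, 39, 37, 33, 39, 37, 39, 37, 33] 12 4 = true := by decide +kernel

theorem rel23_16 : U.rel 19 [39, 37, 39, 37, 33, 39, 37, 39, 37, 33] 16 3 = true := by decide +kernel

theorem rel24_0 : U.rel 19 [39, 37, 39, 37, 29, 39, 37, 39, 37, 29] 0 4 = true := by decide +kernel

theorem rel24_4 : U.rel 19 [39, 37, 39, 37, 29, 39, 37, 39, 37, 29] 4 4 = true := by decide +kernel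

theorem rel24_8 : U.rel 19 [39, 37, 39, 37, 29, 39, 37, 39, 37, 29] 8 4 = true := by decide +kernel

theorem rel24_12 : U.rel 19 [39, 37, 39, 37, 29, 39, 37, 39, 37, 29] 12 4 = true := by decide +kernel

theorem rel24_16 : U.rel 19 [39, 37, 39, 37, 29, 39, 37, 39, 37, 29] 16 3 = true := by decide +kernel

theorem rel25_0 : U.rel 19 [39, 37, 39, 37, 35, 39, 37, 39, 37, 35, 39, 37, 39, 37, 35] 0 3 = true := by decide +kernel

theorem rel25_3 : U.rel 19 [39, 37, 39, 37, 35, 39, 37, 39, 37, 35, 39, 37, 39, 37, 35] 3 3 = true := by decide +kernel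

theorem rel25_6 : U.rel 19 [39, 37, 39, 37, 35, 39, 37, 39, 37, 35, 39, 37, 39, 37, 35] 6 3 = true := by decide +kernel

theorem rel25_9 : U.rel 19 [39, 37, 39, 37, 35, 39, 37, 39, 37, 35, 39, 37, 39, 37, 35] 9 3 = true := by decide +kernel

theorem rel25_12 : U.rel 19 [39, 37, 39, 37, 35, 39, 37, 39, 37, 35, 39, 37, 39, 37, 35] 12 3 = true := by decide +kernel

theorem rel25_15 : U.rel 19 [39, 37, 39, 37, 35, 39, 37, 39, 37, 35, 39, 37, 39, 37, 35] 15 3 = true := by decide +kernel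

theorem rel25_18 : U.rel 19 [39, 37, 39, 37, 35, 39, 37, 39, 37, 35, 39, 37, 39, 37, 35] 18 1 = true := by decide +kernel

theorem rel26_0 : U.rel 19 [39, 37, 35, 29, 39, 37, 35, 29, 39, 37, 35, 29, 39, 37, 35, 29] 0 3 = true := by decide +kernel

theorem rel26_3 : U.rel 19 [39, 37, 35, 29, 39, 37, 35, 29, 39, 37, 35, 29, 39, 37, 35, 29] 3 3 = true := by decide +kernel

theorem rel26_6 : U.rel 19 [39, 37, 35, 29, 39, 37, 35, 29, 39, 37, 35, 29, 39, 37, 35, 29] 6 3 = true := by decide +kernel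

theorem rel26_9 : U.rel 19 [39, 37, 35, 29, 39, 37, 35, 29, 39, 37, 35, 29, 39, 37, 35, 29] 9 3 = true := by decide +kernel

theorem rel26_12 : U.rel 19 [39, 37, 35, 29, 39, 37, 35, 29, 39, 37, 35, 29, 39, 37, 35, 29] 12 3 = true := by decide +kernel

theorem rel26_15 : U.rel 19 [39, 37, 35, 29, 39, 37, 35, 29, 39, 37, 35, 29, 39, 37, 35, 29] 15 3 = true := by decide +kernel

theorem rel26_18 : U.rel 19 [39, 37, 35, 29, 39, 37, 35, 29, 39, 37, 35, 29, 39, 37, 35, 29] 18 1 = true := by decide +kernel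

theorem rel27_0 : U.rel 19 [35, 29, 35, 29, 35, 29, 35, 29, 35, 29, 35, 29, 35, 29, 35, 29, 35, 29, 35, 29] 0 2 = true := by decide +kernel

theorem rel27_2 : U.rel 19 [35, 29, 35, 29, 35, 29, 35, 29, 35, 29, 35, 29, 35, 29, 35, 29, 35, 29, 35, 29] 2 2 = true := by decide +kernel

theorem rel27_4 : U.rel 19 [35, 29, 35, 29, 35, 29, 35, 29, 35, 29, 35, 29, 35, 29, 35, 29, 35, 29, 35, 29] 4 2 = true := by decide +kernel

theorem rel27_6 : U.rel 19 [35, 29, 35, 29, 35, 29, 35, 29, 35, 29, 35, 29, 35, 29, 35, 29, 35, 29, 35, 29] 6 2 = true := by decide +kernel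

theorem rel27_8 : U.rel 19 [35, 29, 35, 29, 35, 29, 35, 29, 35, 29, 35, 29, 35, 29, 35, 29, 35, 29, 35, 29] 8 2 = true := by decide +kernel

theorem rel27_10 : U.rel 19 [35, 29, 35, 29, 35, 29, 35, 29, 35, 29, 35, 29, 35, 29, 35, 29, 35, 29, 35, 29] 10 2 = true := by decide +kernel

theorem rel27_12 : U.rel 19 [35, 29, 35, 29, 35, 29, 35, 29, 35, 29, 35, 29, 35, 29, 35, 29, 35, 29, 35, 29] 12 2 = true := by decide +kernel

theorem rel27_14 : U.rel 19 [35, 29, 35, 29, 35, 29, 35, 29, 35, 29, 35, 29, 35, 29, 35, 29, 35, 29, 35, 29] 14 2 = true := by decide +kernel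

theorem rel27_16 : U.rel 19 [35, 29, 35, 29, 35, 29, 35, 29, 35, 29, 35, 29, 35, 29, 35, 29, 35, 29, 35, 29] 16 2 = true := by decide +kernel

theorem rel27_18 : U.rel 19 [35, 29, 35, 29, 35, 29, 35, 29, 35, 29, 35, 29, 35, 29, 35, 29, 35, 29, 35, 29] 18 1 = true := by decide +kernel

theorem rel28_0 : U.rel 19 [37, 35, 29, 35, 29, 35, 29, 35, 29, 35, 29, 37, 35, 29, 35, 29, 35, 29, 35, 29, 35, 29] 0 2 = true := by decide +kernel

theorem rel28_2 : U.rel 19 [37, 35, 29, 35, 29, 35, 29, 35, 29, 35, 29, 37, 35, 29, 35, 29, 35, 29, 35, 29, 35, 29] 2 2 = true := by decide +kernel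

theorem rel28_4 : U.rel 19 [37, 35, 29, 35, 29, 35, 29, 35, 29, 35, 29, 37, 35, 29, 35, 29, 35, 29, 35, 29, 35, 29] 4 2 = true := by decide +kernel

theorem rel28_6 : U.rel 19 [37, 35, 29, 35, 29, 35, 29, 35, 29, 35, 29, 37, 35, 29, 35, 29, 35, 29, 35, 29, 35, 29] 6 2 = true := by decide +kernel

theorem rel28_8 : U.rel 19 [37, 35, 29, 35, 29, 35, 29, 35, 29, 35, 29, 37, 35, 29, 35, 29, 35, 29, 35, 29, 35, 29] 8 2 = true := by decide +kernel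

theorem rel28_10 : U.rel 19 [37, 35, 29, 35, 29, 35, 29, 35, 29, 35, 29, 37, 35, 29, 35, 29, 35, 29, 35, 29, 35, 29] 10 2 = true := by decide +kernel

theorem rel28_12 : U.rel 19 [37, 35, 29, 35, 29, 35, 29, 35, 29, 35, 29, 37, 35, 29, 35, 29, 35, 29, 35, 29, 35, 29] 12 2 = true := by decide +kernel

theorem rel28_14 : U.rel 19 [37, 35, 29, 35, 29, 35, 29, 35, 29, 35, 29, 37, 35, 29, 35, 29, 35, 29, 35, 29, 35, 29] 14 2 = true := by decide +kernel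

theorem rel28_16 : U.rel 19 [37, 35, 29, 35, 29, 35, 29, 35, 29, 35, 29, 37, 35, 29, 35, 29, 35, 29, 35, 29, 35, 29] 16 2 = true := by decide +kernel

theorem rel28_18 : U.rel 19 [37, 35, 29, 35, 29, 35, 29, 35, 29, 35, 29, 37, 35, 29, 35, 29, 35, 29, 35, 29, 35, 29] 18 1 = true := by decide +kernel

theorem rel29_0 : U.rel 19 [39, 35, 29, 35, 29, 35, 29, 35, 29, 35, 29, 39, 35, 29, 35, 29, 35, 29, 35, 29, 35, 29] 0 2 = true := by decide +kernel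

theorem rel29_2 : U.rel 19 [39, 35, 29, 35, 29, 35, 29, 35, 29, 35, 29, 39, 35, 29, 35, 29, 35, 29, 35, 29, 35, 29] 2 2 = true := by decide +kernel

theorem rel29_4 : U.rel 19 [39, 35, 29, 35, 29, 35, 29, 35, 29, 35, 29, 39, 35, 29, 35, 29, 35, 29, 35, 29, 35, 29] 4 2 = true := by decide +kernel

theorem rel29_6 : U.rel 19 [39, 35, 29, 35, 29, 35, 29, 35, 29, 35, 29, 39, 35, 29, 35, 29, 35, 29, 35, 29, 35, 29] 6 2 = true := by decide +kernel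

theorem rel29_8 : U.rel 19 [39, 35, 29, 35, 29, 35, 29, 35, 29, 35, 29, 39, 35, 29, 35, 29, 35, 29, 35, 29, 35, 29] 8 2 = true := by decide +kernel

theorem rel29_10 : U.rel 19 [39, 35, 29, 35, 29, 35, 29, 35, 29, 35, 29, 39, 35, 29, 35, 29, 35, 29, 35, 29, 35, 29] 10 2 = true := by decide +kernel

theorem rel29_12 : U.rel 19 [39, 35, 29, 35, 29, 35, 29, 35, 29, 35, 29, 39, 35, 29, 35, 29, 35, 29, 35, 29, 35, 29] 12 2 = true := by decide +kernel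

theorem rel29_14 : U.rel 19 [39, 35, 29, 35, 29, 35, 29, 35, 29, 35, 29, 39, 35, 29, 35, 29, 35, 29, 35, 29, 35, 29] 14 2 = true := by decide +kernel

theorem rel29_16 : U.rel 19 [39, 35, 29, 35, 29, 35, 29, 35, 29, 35, 29, 39, 35, 29, 35, 29, 35, 29, 35, 29, 35, 29] 16 2 = true := by decide +kernel

theorem rel29_18 : U.rel 19 [39, 35, 29, 35, 29, 35, 29, 35, 29, 35, 29, 39, 35, 29, 35, 29, 35, 29, 35, 29, 35, 29] 18 1 = true := by decide +kernel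

theorem rel30_0 : U.rel 19 [39, 37, 39, 37, 35, 29, 35, 29, 35, 29, 35, 29, 35, 29, 39, 37, 39, 37, 35, 29, 35, 29, 35, 29, 35, 29, 35, 29] 0 1 = true := by decide +kernel

theorem rel30_1 : U.rel 19 [39, 37, 39, 37, 35, 29, 35, 29, 35, 29, 35, 29, 35, 29, 39, 37, 39, 37, 35, 29, 35, 29, 35, 29, 35, 29, 35, 29] 1 1 = true := by decide +kernel

theorem rel30_2 : U.rel 19 [39, 37, 39, 37, 35, 29, 35, 29, 35, 29, 35, 29, 35, 29, 39, 37, 39, 37, 35, 29, 35, 29, 35, 29, 35, 29, 35, 29] 2 1 = true := by decide +kernel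

theorem rel30_3 : U.rel 19 [39, 37, 39, 37, 35, 29, 35, 29, 35, 29, 35, 29, 35, 29, 39, 37, 39, 37, 35, 29, 35, 29, 35, 29, 35, 29, 35, 29] 3 1 = true := by decide +kernel

theorem rel30_4 : U.rel 19 [39, 37, 39, 37, 35, 29, 35, 29, 35, 29, 35, 29, 35, 29, 39, 37, 39, 37, 35, 29, 35, 29, 35, 29, 35, 29, 35, 29] 4 1 = true := by decide +kernel

theorem rel30_5 : U.rel 19 [39, 37, 39, 37, 35, 29, 35, 29, 35, 29, 35, 29, 35, 29, 39, 37, 39, 37, 35, 29, 35, 29, 35, 29, 35, 29, 35, 29] 5 1 = true := by decide +kernel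

theorem rel30_6 : U.rel 19 [39, 37, 39, 37, 35, 29, 35, 29, 35, 29, 35, 29, 35, 29, 39, 37, 39, 37, 35, 29, 35, 29, 35, 29, 35, 29, 35, 29] 6 1 = true := by decide +kernel

theorem rel30_7 : U.rel 19 [39, 37, 39, 37, 35, 29, 35, 29, 35, 29, 35, 29, 35, 29, 39, 37, 39, 37, 35, 29, 35, 29, 35, 29, 35, 29, 35, 29] 7 1 = true := by decide +kernel

theorem rel30_8 : U.rel 19 [39, 37, 39, 37, 35, 29, 35, 29, 35, 29, 35, 29, 35, 29, 39, 37, 39, 37, 35, 29, 35, 29, 35, 29, 35, 29, 35, 29] 8 1 = true := by decide +kernel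

theorem rel30_9 : U.rel 19 [39, 37, 39, 37, 35, 29, 35, 29, 35, 29, 35, 29, 35, 29, 39, 37, 39, 37, 35, 29, 35, 29, 35, 29, 35, 29, 35, 29] 9 1 = true := by decide +kernel

theorem rel30_10 : U.rel 19 [39, 37, 39, 37, 35, 29, 35, 29, 35, 29, 35, 29, 35, 29, 39, 37, 39, 37, 35, 29, 35, 29, 35, 29, 35, 29, 35, 29] 10 1 = true := by decide +kernel

theorem rel30_11 : U.rel 19 [39, 37, 39, 37, 35, 29, 35, 29, 35, 29, 35, 29, 35, 29, 39, 37, 39, 37, 35, 29, 35, 29, 35, 29, 35, 29, 35, 29] 11 1 = true := by decide +kernel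

theorem rel30_12 : U.rel 19 [39, 37, 39, 37, 35, 29, 35, 29, 35, 29, 35, 29, 35, 29, 39, 37, 39, 37, 35, 29, 35, 29, 35, 29, 35, 29, 35, 29] 12 1 = true := by decide +kernel

theorem rel30_13 : U.rel 19 [39, 37, 39, 37, 35, 29, 35, 29, 35, 29, 35, 29, 35, 29, 39, 37, 39, 37, 35, 29, 35, 29, 35, 29, 35, 29, 35, 29] 13 1 = true := by decide +kernel

theorem rel30_14 : U.rel 19 [39, 37, 39, 37, 35, 29, 35, 29, 35, 29, 35, 29, 35, 29, 39, 37, 39, 37, 35, 29, 35, 29, 35, 29, 35, 29, 35, 29] 14 1 = true := by decide +kernel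

theorem rel30_15 : U.rel 19 [39, 37, 39, 37, 35, 29, 35, 29, 35, 29, 35, 29, 35, 29, 39, 37, 39, 37, 35, 29, 35, 29, 35, 29, 35, 29, 35, 29] 15 1 = true := by decide +kernel

theorem rel30_16 : U.rel 19 [39, 37, 39, 37, 35, 29, 35, 29, 35, 29, 35, 29, 35, 29, 39, 37, 39, 37, 35, 29, 35, 29, 35, 29, 35, 29, 35, 29] 16 1 = true := by decide +kernel

theorem rel30_17 : U.rel 19 [39, 37, 39, 37, 35, 29, 35, 29, 35, 29, 35, 29, 35, 29, 39, 37, 39, 37, 35, 29, 35, 29, 35, 29, 35, 29, 35, 29] 17 1 = true := by decide +kernel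

theorem rel30_18 : U.rel 19 [39, 37, 39, 37, 35, 29, 35, 29, 35, 29, 35, 29, 35, 29, 39, 37, 39, 37, 35, 29, 35, 29, 35, 29, 35, 29, 35, 29] 18 1 = true := by decide +kernel

theorem rel31_0 : U.rel 19 [35, 29, 35, 29, 35, 29, 35, 29, 35, 29, 33, 29, 35, 29, 35, 29, 35, 29, 35, 29, 35, 29, 33, 29, 35, 29, 35, 29, 35, 29, 35, 29, 35, 29, 33, 29, 39, 37, 39, 37] 0 1 = true := by decide +kernel

theorem rel31_1 : U.rel 19 [35, 29, 35, 29, 35, 29, 35, 29, 35, 29, 33, 29, 35, 29, 35, 29, 35, 29, 35, 29, 35, 29, 33, 29, 35, 29, 35, 29, 35, 29, 35, 29, 35, 29, 33, 29, 39, 37, 39, 37] 1 1 = true := by decide +kernel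

theorem rel31_2 : U.rel 19 [35, 29, 35, 29, 35, 29, 35, 29, 35, 29, 33, 29, 35, 29, 35, 29, 35, 29, 35, 29, 35, 29, 33, 29, 35, 29, 35, 29, 35, 29, 35, 29, 35, 29, 33, 29, 39, 37, 39, 37] 2 1 = true := by decide +kernel

theorem rel31_3 : U.rel 19 [35, 29, 35, 29, 35, 29, 35, 29, 35, 29, 33, 29, 35, 29, 35, 29, 35, 29, 35, 29, 35, 29, 33, 29, 35, 29, 35, 29, 35, 29, 35, 29, 35, 29, 33, 29, 39, 37, 39, 37] 3 1 = true := by decide +kernel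

theorem rel31_4 : U.rel 19 [35, 29, 35, 29, 35, 29, 35, 29, 35, 29, 33, 29, 35, 29, 35, 29, 35, 29, 35, 29, 35, 29, 33, 29, 35, 29, 35, 29, 35, 29, 35, 29, 35, 29, 33, 29, 39, 37, 39, 37] 4 1 = true := by decide +kernel

theorem rel31_5 : U.rel 19 [35, 29, 35, 29, 35, 29, 35, 29, 35, 29, 33, 29, 35, 29, 35, 29, 35, 29, 35, 29, 35, 29, 33, 29, 35, 29, 35, 29, 35, 29, 35, 29, 35, 29, 33, 29, 39, 37, 39, 37] 5 1 = true := by decide +kernel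

theorem rel31_6 : U.rel 19 [35, 29, 35, 29, 35, 29, 35, 29, 35, 29, 33, 29, 35, 29, 35, 29, 35, 29, 35, 29, 35, 29, 33, 29, 35, 29, 35, 29, 35, 29, 35, 29, 35, 29, 33, 29, 39, 37, 39, 37] 6 1 = true := by decide +kernel

theorem rel31_7 : U.rel 19 [35, 29, 35, 29, 35, 29, 35, 29, 35, 29, 33, 29, 35, 29, 35, 29, 35, 29, 35, 29, 35, 29, 33, 29, 35, 29, 35, 29, 35, 29, 35, 29, 35, 29, 33, 29, 39, 37, 39, 37] 7 1 = true := by decide +kernel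

theorem rel31_8 : U.rel 19 [35, 29, 35, 29, 35, 29, 35, 29, 35, 29, 33, 29, 35, 29, 35, 29, 35, 29, 35, 29, 35, 29, 33, 29, 35, 29, 35, 29, 35, 29, 35, 29, 35, 29, 33, 29, 39, 37, 39, 37] 8 1 = true := by decide +kernel

theorem rel31_9 : U.rel 19 [35, 29, 35, 29, 35, 29, 35, 29, 35, 29, 33, 29, 35, 29, 35, 29, 35, 29, 35, 29, 35, 29, 33, 29, 35, 29, 35, 29, 35, 29, 35, 29, 35, 29, 33, 29, 39, 37, 39, 37] 9 1 = true := by decide +kernel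

theorem rel31_10 : U.rel 19 [35, 29, 35, 29, 35, 29, 35, 29, 35, 29, 33, 29, 35, 29, 35, 29, 35, 29, 35, 29, 35, 29, 33, 29, 35, 29, 35, 29, 35, 29, 35, 29, 35, 29, 33, 29, 39, 37, 39, 37] 10 1 = true := by decide +kernel

theorem rel31_11 : U.rel 19 [35, 29, 35, 29, 35, 29, 35, 29, 35, 29, 33, 29, 35, 29, 35, 29, 35, 29, 35, 29, 35, 29, 33, 29, 35, 29, 35, 29, 35, 29, 35, 29, 35, 29, 33, 29, 39, 37, 39, 37] 11 1 = true := by decide +kernel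

theorem rel31_12 : U.rel 19 [35, 29, 35, 29, 35, 29, 35, 29, 35, 29, 33, 29, 35, 29, 35, 29, 35, 29, 35, 29, 35, 29, 33, 29, 35, 29, 35, 29, 35, 29, 35, 29, 35, 29, 33, 29, 39, 37, 39, 37] 12 1 = true := by decide +kernel

theorem rel31_13 : U.rel 19 [35, 29, 35, 29, 35, 29, 35, 29, 35, 29, 33, 29, 35, 29, 35, 29, 35, 29, 35, 29, 35, 29, 33, 29, 35, 29, 35, 29, 35, 29, 35, 29, 35, 29, 33, 29, 39, 37, 39, 37] 13 1 = true := by decide +kernel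

theorem rel31_14 : U.rel 19 [35, 29, 35, 29, 35, 29, 35, 29, 35, 29, 33, 29, 35, 29, 35, 29, 35, 29, 35, 29, 35, 29, 33, 29, 35, 29, 35, 29, 35, 29, 35, 29, 35, 29, 33, 29, 39, 37, 39, 37] 14 1 = true := by decide +kernel

theorem rel31_15 : U.rel 19 [35, 29, 35, 29, 35, 29, 35, 29, 35, 29, 33, 29, 35, 29, 35, 29, 35, 29, 35, 29, 35, 29, 33, 29, 35, 29, 35, 29, 35, 29, 35, 29, 35, 29, 33, 29, 39, 37, 39, 37] 15 1 = true := by decide +kernel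

theorem rel31_16 : U.rel 19 [35, 29, 35, 29, 35, 29, 35, 29, 35, 29, 33, 29, 35, 29, 35, 29, 35, 29, 35, 29, 35, 29, 33, 29, 35, 29, 35, 29, 35, 29, 35, 29, 35, 29, 33, 29, 39, 37, 39, 37] 16 1 = true := by decide +kernel

theorem rel31_17 : U.rel 19 [35, 29, 35, 29, 35, 29, 35, 29, 35, 29, 33, 29, 35, 29, 35, 29, 35, 29, 35, 29, 35, 29, 33, 29, 35, 29, 35, 29, 35, 29, 35, 29, 35, 29, 33, 29, 39, 37, 39, 37] 17 1 = true := by decide +kernel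

theorem rel31_18 : U.rel 19 [35, 29, 35, 29, 35, 29, 35, 29, 35, 29, 33, 29, 35, 29, 35, 29, 35, 29, 35, 29, 35, 29, 33, 29, 35, 29, 35, 29, 35, 29, 35, 29, 35, 29, 33, 29, 39, 37, 39, 37] 18 1 = true := by decide +kernel

theorem rel32_0 : U.rel 19 [33, 35, 29, 35, 29, 35, 29, 35, 29, 35, 29, 33, 35, 29, 35, 29, 35, 29, 35, 29, 35, 29, 33, 35, 29, 35, 29, 35, 29, 35, 29, 35, 29, 33, 35, 29, 35, 29, 35, 29, 35, 29, 35, 29] 0 1 = true := by decide +kernel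

theorem rel32_1 : U.rel 19 [33, 35, 29, 35, 29, 35, 29, 35, 29, 35, 29, 33, 35, 29, 35, 29, 35, 29, 35, 29, 35, 29, 33, 35, 29, 35, 29, 35, 29, 35, 29, 35, 29, 33, 35, 29, 35, 29, 35, 29, 35, 29, 35, 29] 1 1 = true := by decide +kernel

theorem rel32_2 : U.rel 19 [33, 35, 29, 35, 29, 35, 29, 35, 29, 35, 29, 33, 35, 29, 35, 29, 35, 29, 35, 29, 35, 29, 33, 35, 29, 35, 29, 35, 29, 35, 29, 35, 29, 33, 35, 29, 35, 29, 35, 29, 35, 29, 35, 29] 2 1 = true := by decide +kernel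

theorem rel32_3 : U.rel 19 [33, 35, 29, 35, 29, 35, 29, 35, 29, 35, 29, 33, 35, 29, 35, 29, 35, 29, 35, 29, 35, 29, 33, 35, 29, 35, 29, 35, 29, 35, 29, 35, 29, 33, 35, 29, 35, 29, 35, 29, 35, 29, 35, 29] 3 1 = true := by decide +kernel

theorem rel32_4 : U.rel 19 [33, 35, 29, 35, 29, 35, 29, 35, 29, 35, 29, 33, 35, 29, 35, 29, 35, 29, 35, 29, 35, 29, 33, 35, 29, 35, 29, 35, 29, 35, 29, 35, 29, 33, 35, 29, 35, 29, 35, 29, 35, 29, 35, 29] 4 1 = true := by decide +kernel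

theorem rel32_5 : U.rel 19 [33, 35, 29, 35, 29, 35, 29, 35, 29, 35, 29, 33, 35, 29, 35, 29, 35, 29, 35, 29, 35, 29, 33, 35, 29, 35, 29, 35, 29, 35, 29, 35, 29, 33, 35, 29, 35, 29, 35, 29, 35, 29, 35, 29] 5 1 = true := by decide +kernel

theorem rel32_6 : U.rel 19 [33, 35, 29, 35, 29, 35, 29, 35, 29, 35, 29, 33, 35, 29, 35, 29, 35, 29, 35, 29, 35, 29, 33, 35, 29, 35, 29, 35, 29, 35, 29, 35, 29, 33, 35, 29, 35, 29, 35, 29, 35, 29, 35, 29] 6 1 = true := by decide +kernel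

theorem rel32_7 : U.rel 19 [33, 35, 29, 35, 29, 35, 29, 35, 29, 35, 29, 33, 35, 29, 35, 29, 35, 29, 35, 29, 35, 29, 33, 35, 29, 35, 29, 35, 29, 35, 29, 35, 29, 33, 35, 29, 35, 29, 35, 29, 35, 29, 35, 29] 7 1 = true := by decide +kernel

theorem rel32_8 : U.rel 19 [33, 35, 29, 35, 29, 35, 29, 35, 29, 35, 29, 33, 35, 29, 35, 29, 35, 29, 35, 29, 35, 29, 33, 35, 29, 35, 29, 35, 29, 35, 29, 35, 29, 33, 35, 29, 35, 29, 35, 29, 35, 29, 35, 29] 8 1 = true := by decide +kernel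

theorem rel32_9 : U.rel 19 [33, 35, 29, 35, 29, 35, 29, 35, 29, 35, 29, 33, 35, 29, 35, 29, 35, 29, 35, 29, 35, 29, 33, 35, 29, 35, 29, 35, 29, 35, 29, 35, 29, 33, 35, 29, 35, 29, 35, 29, 35, 29, 35, 29] 9 1 = true := by decide +kernel

theorem rel32_10 : U.rel 19 [33, 35, 29, 35, 29, 35, 29, 35, 29, 35, 29, 33, 35, 29, 35, 29, 35, 29, 35, 29, 35, 29, 33, 35, 29, 35, 29, 35, 29, 35, 29, 35, 29, 33, 35, 29, 35, 29, 35, 29, 35, 29, 35, 29] 10 1 = true := by decide +kernel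

theorem rel32_11 : U.rel 19 [33, 35, 29, 35, 29, 35, 29, 35, 29, 35, 29, 33, 35, 29, 35, 29, 35, 29, 35, 29, 35, 29, 33, 35, 29, 35, 29, 35, 29, 35, 29, 35, 29, 33, 35, 29, 35, 29, 35, 29, 35, 29, 35, 29] 11 1 = true := by decide +kernel

theorem rel32_12 : U.rel 19 [33, 35, 29, 35, 29, 35, 29, 35, 29, 35, 29, 33, 35, 29, 35, 29, 35, 29, 35, 29, 35, 29, 33, 35, 29, 35, 29, 35, 29, 35, 29, 35, 29, 33, 35, 29, 35, 29, 35, 29, 35, 29, 35, 29] 12 1 = true := by decide +kernel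

theorem rel32_13 : U.rel 19 [33, 35, 29, 35, 29, 35, 29, 35, 29, 35, 29, 33, 35, 29, 35, 29, 35, 29, 35, 29, 35, 29, 33, 35, 29, 35, 29, 35, 29, 35, 29, 35, 29, 33, 35, 29, 35, 29, 35, 29, 35, 29, 35, 29] 13 1 = true := by decide +kernel

theorem rel32_14 : U.rel 19 [33, 35, 29, 35, 29, 35, 29, 35, 29, 35, 29, 33, 35, 29, 35, 29, 35, 29, 35, 29, 35, 29, 33, 35, 29, 35, 29, 35, 29, 35, 29, 35, 29, 33, 35, 29, 35, 29, 35, 29, 35, 29, 35, 29] 14 1 = true := by decide +kernel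

theorem rel32_15 : U.rel 19 [33, 35, 29, 35, 29, 35, 29, 35, 29, 35, 29, 33, 35, 29, 35, 29, 35, 29, 35, 29, 35, 29, 33, 35, 29, 35, 29, 35, 29, 35, 29, 35, 29, 33, 35, 29, 35, 29, 35, 29, 35, 29, 35, 29] 15 1 = true := by decide +kernel

theorem rel32_16 : U.rel 19 [33, 35, 29, 35, 29, 35, 29, 35, 29, 35, 29, 33, 35, 29, 35, 29, 35, 29, 35, 29, 35, 29, 33, 35, 29, 35, 29, 35, 29, 35, 29, 35, 29, 33, 35, 29, 35, 29, 35, 29, 35, 29, 35, 29] 16 1 = true := by decide +kernel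

theorem rel32_17 : U.rel 19 [33, 35, 29, 35, 29, 35, 29, 35, 29, 35, 29, 33, 35, 29, 35, 29, 35, 29, 35, 29, 35, 29, 33, 35, 29, 35, 29, 35, 29, 35, 29, 35, 29, 33, 35, 29, 35, 29, 35, 29, 35, 29, 35, 29] 17 1 = true := by decide +kernel

theorem rel32_18 : U.rel 19 [33, 35, 29, 35, 29, 35, 29, 35, 29, 35, 29, 33, 35, 29, 35, 29, 35, 29, 35, 29, 35, 29, 33, 35, 29, 35, 29, 35, 29, 35, 29, 35, 29, 33, 35, 29, 35, 29, 35, 29, 35, 29, 35, 29] 18 1 = true := by decide +kernel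

theorem sd33 : U.sends [33] 0 104831 = true := by decide +kernel

end Cfsg.Agent.Spor.Fi306936.V
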