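import Cfsg.Agent.Spor.Prim
import Cfsg.Agent.Spor.Fi306936.Main
import Cfsg.Agent.Spor.Fi306936.V.C0
import Cfsg.Agent.Spor.TT2
import Cfsg.Agent.Spor.Sub3
import Cfsg.Agent.Spor.HeSimple

set_option autoImplicit false
set_option maxRecDepth 100000000
set_option Elab.async false

namespace Cfsg.Agent.Spor.Fi306936.V

theorem hU : U.Ok 19 := U.ok_of 19 (show AllP (fun n => Net.okb 19 n = true) [n0, n1, n2, n3, n4, n5, n6, n7, n8, n9, n10, n11, n12, n13, un14, un15, un16, un17, un18, un19] from AllP.cons ok0 (AllP.cons ok1 (AllP.cons ok2 (AllP.cons ok3 (AllP.cons ok4 (AllP.cons ok5 (AllP.cons ok6 (AllP.cons ok7 (AllP.cons ok8 (AllP.cons ok9 (AllP.cons ok10 (AllP.cons ok11 (AllP.cons ok12 (AllP.cons ok13 (AllP.cons uok14 (AllP.cons uok15 (AllP.cons uok16 (AllP.cons uok17 (AllP.cons uok18 (AllP.cons uok19 (AllP.nil)))))))))))))))))))))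

theorem hfP : ∀ j < 12, U.fP [1, 3, 5, 7, 9, 11, 13, 15, 17, 19, 21, 23] j = fP j := by
  intro j hj
  interval_cases j <;> rfl
theorem eG : gsub 12 fP = U.lsub W1 := (gsub_congr hfP).symm.trans (lsub_eq_gsub U [1, 3, 5, 7, 9, 11, 13, 15, 17, 19, 21, 23])
theorem upz1 : ev (atm 12 fP) [0] = U.τ 1 := pz1
theorem upz3 : ev (atm 12 fP) [2] = U.τ 3 := pz2
theorem upz5 : ev (atm 12 fP) [4] = U.τ 5 := pz3
theorem upz7 : ev (atm 12 fP) [6] = U.τ 7 := pz4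
theorem upz9 : ev (atm 12 fP) [8] = U.τ 9 := pz5
theorem upz11 : ev (atm 12 fP) [10] = U.τ 11 := pz6
theorem upz13 : ev (atm 12 fP) [12] = U.τ 13 := pz7
theorem upz15 : ev (atm 12 fP) [14] = U.τ 15 := pz8
theorem upz17 : ev (atm 12 fP) [16] = U.τ 17 := pz9
theorem upz19 : ev (atm 12 fP) [18] = U.τ 19 := pz10
theorem upz21 : ev (atm 12 fP) [20] = U.τ 21 := pz11
theorem upz23 : ev (atm 12 fP) [22] = U.τ 23 := pz12
theorem upz25 : ev (atm 12 fP) [0, 2, 4, 6, 8, 10, 14] = U.τ 25 := pz13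
theorem upz27 : ev (atm 12 fP) [6, 4, 2, 0, 22, 20, 6, 8, 10, 12, 18, 6, 14, 16] = U.τ 27 := pz15
theorem eH : wsub 12 fP BW = U.lsub W2 :=
  lsub_eq_of_all₂ (show List.Forall₂ _ [[0], [2], [4], [6], [8], [10], [12], [14], [16], [18], [20]] [[1], [3], [5], [7], [9], [11], [13], [15], [17], [19], [21]] from List.Forall₂.cons (upz1.trans (one_mul _).symm) (List.Forall₂.cons (upz3.trans (one_mul _).symm) (List.Forall₂.cons (upz5.trans (one_mul _).symm) (List.Forall₂.cons (upz7.trans (one_mul _).symm) (List.Forall₂.cons (upz9.trans (one_mul _).symm) (List.Forall₂.cons (upz11.trans (one_mul _).symm) (List.Forall₂.cons (upz13.trans (one_mul _).symm) (List.Forall₂.cons (upz15.trans (one_mul _).symm) (List.Forall₂.cons (upz17.trans (one_mul _).symm) (List.Forall₂.cons (upz19.trans (one_mul _).symm) (List.Forall₂.cons (upz21.trans (one_mul _).symm) (List.Forall₂.nil))))))))))))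
theorem vpz1 : PZ U (atm 12 fP) EXU 1 := pz1
theorem vpz2 : PZ U (atm 12 fP) EXU 2 := PZ.of_inv hiv vpz1 (by decide +kernel)
theorem vpz3 : PZ U (atm 12 fP) EXU 3 := pz2
theorem vpz4 : PZ U (atm 12 fP) EXU 4 := PZ.of_inv hiv vpz3 (by decide +kernel)
theorem vpz5 : PZ U (atm 12 fP) EXU 5 := pz3
theorem vpz6 : PZ U (atm 12 fP) EXU 6 := PZ.of_inv hiv vpz5 (by decide +kernel)
theorem vpz7 : PZ U (atm 12 fP) EXU 7 := pz4
theorem vpz8 : PZ U (atm 12 fP) EXU 8 := PZ.of_inv hiv vpz7 (by decide +kernel)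
theorem vpz9 : PZ U (atm 12 fP) EXU 9 := pz5
theorem vpz10 : PZ U (atm 12 fP) EXU 10 := PZ.of_inv hiv vpz9 (by decide +kernel)
theorem vpz11 : PZ U (atm 12 fP) EXU 11 := pz6
theorem vpz12 : PZ U (atm 12 fP) EXU 12 := PZ.of_inv hiv vpz11 (by decide +kernel)
theorem vpz13 : PZ U (atm 12 fP) EXU 13 := pz7
theorem vpz14 : PZ U (atm 12 fP) EXU 14 := PZ.of_inv hiv vpz13 (by decide +kernel)
theorem vpz15 : PZ U (atm 12 fP) EXU 15 := pz8
theorem vpz16 : PZ U (atm 12 fP) EXU 16 := PZ.of_inv hiv vpz15 (by decide +kernel)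
theorem vpz17 : PZ U (atm 12 fP) EXU 17 := pz9
theorem vpz18 : PZ U (atm 12 fP) EXU 18 := PZ.of_inv hiv vpz17 (by decide +kernel)
theorem vpz19 : PZ U (atm 12 fP) EXU 19 := pz10
theorem vpz20 : PZ U (atm 12 fP) EXU 20 := PZ.of_inv hiv vpz19 (by decide +kernel)
theorem vpz21 : PZ U (atm 12 fP) EXU 21 := pz11
theorem vpz22 : PZ U (atm 12 fP) EXU 22 := PZ.of_inv hiv vpz21 (by decide +kernel)
theorem vpz23 : PZ U (atm 12 fP) EXU 23 := pz12
theorem vpz24 : PZ U (atm 12 fP) EXU 24 := PZ.of_inv hiv vpz23 (by decide +kernel)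
theorem vpz25 : PZ U (atm 12 fP) EXU 25 := pz13
theorem vpz26 : PZ U (atm 12 fP) EXU 26 := PZ.of_inv hiv vpz25 (by decide +kernel)
theorem vpz27 : PZ U (atm 12 fP) EXU 27 := pz15
theorem vpz28 : PZ U (atm 12 fP) EXU 28 := PZ.of_inv hiv vpz27 (by decide +kernel)
theorem hPZU : AllP (PZ U (atm 12 fP) EXU) LU :=
  show AllP (PZ U (atm 12 fP) EXU) [1, 2, 3, 4, 5, 6, 7, 8, 9, 10, 11, 12, 13, 14, 15, 16, 17, 18, 19, 20, 21, 22, 23, 24, 25, 26, 27, 28] from AllP.cons vpz1 (AllP.cons vpz2 (AllP.cons vpz3 (AllP.cons vpz4 (AllP.cons vpz5 (AllP.cons vpz6 (AllP.cons vpz7 (AllP.cons vpz8 (AllP.cons vpz9 (AllP.cons vpz10 (AllP.cons vpz11 (AllP.cons vpz12 (AllP.cons vpz13 (AllP.cons vpz14 (AllP.cons vpz15 (AllP.cons vpz16 (AllP.cons vpz17 (AllP.cons vpz18 (AllP.cons vpz19 (AllP.cons vpz20 (AllP.cons vpz21 (AllP.cons vpz22 (AllP.cons vpz23 (AllP.cons vpz24 (AllP.cons vpz25 (AllP.cons vpz26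 (AllP.cons vpz27 (AllP.cons vpz28 (AllP.nil))))))))))))))))))))))))))))
theorem mem29 : U.τ 29 ∈ gsub 12 fP :=
  mem_def (d := [1, 5]) (AllP.of_sub (l := [1, 5]) (AllP.cons vpz1.mem (AllP.cons vpz5.mem (AllP.nil))) (by decide +kernel)) (hU.one_of (PlaneFix.trans (hU.rel rel3_0) (hU.rel rel3_16)))
theorem mem30 : U.τ 30 ∈ gsub 12 fP := Tab.mem_inv mem29 (by decide +kernel)
theorem mem31 : U.τ 31 ∈ gsub 12 fP :=
  mem_def (d := [27, 1, 11, 27, 23, 28, 19, 28, 23, 28, 19, 28, 23, 28, 19, 28, 23, 28, 19, 28, 23, 28, 19, 28, 23, 28, 19, 28, 23, 28, 19, 28, 28, 11, 1, 28]) (AllP.of_sub (l := [1, 11, 19, 23, 27, 28]) (AllP.cons vpz1.mem (AllP.cons vpz11.mem (AllP.cons vpz19.mem (AllP.cons vpz23.mem (AllP.cons vpz27.mem (AllP.cons vpz28.mem (AllP.nil))))))) (by decide +kernel)) (hU.one_of (PlaneFix.trans (PlaneFix.trans (PlaneFix.trans (PlaneFix.trans (PlaneFix.trans (PlaneFix.trans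 (PlaneFix.trans (PlaneFix.trans (PlaneFix.trans (PlaneFix.trans (PlaneFix.trans (PlaneFix.trans (PlaneFix.trans (PlaneFix.trans (PlaneFix.trans (PlaneFix.trans (PlaneFix.trans (PlaneFix.trans (hU.rel rel4_0) (hU.rel rel4_1)) (hU.rel rel4_2)) (hU.rel rel4_3)) (hU.rel rel4_4)) (hU.rel rel4_5)) (hU.rel rel4_6)) (hU.rel rel4_7)) (hU.rel rel4_8)) (hU.rel rel4_9)) (hU.rel rel4_10)) (hU.rel rel4_11)) (hU.rel rel4_12)) (hU.rel rel4_13)) (hU.rel rel4_14)) (hU.rel rel4_15)) (hU.rel rel4_16)) (hU.rel rel4_17)) (hU.rel rel4_18)))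
theorem mem32 : U.τ 32 ∈ gsub 12 fP := Tab.mem_inv mem31 (by decide +kernel)
theorem mem33 : U.τ 33 ∈ gsub 12 fP :=
  mem_def (d := [31, 30, 31, 30, 31, 30, 32, 30, 32, 30, 32, 30, 31, 30, 32, 30, 32, 30, 32, 30, 31, 30, 32, 30, 32, 30, 32, 30, 31, 30, 31, 30, 32, 30, 32, 30, 31, 30, 31, 30, 31, 30, 32, 30, 31, 30, 31, 30, 31, 30, 32, 30, 31, 30, 31, 30, 31, 30, 32, 30, 32, 30, 32]) (AllP.of_sub (l := [30, 31, 32]) (AllP.cons mem30 (AllP.cons mem31 (AllP.cons mem32 (AllP.nil)))) (by decide +kernel)) (hU.one_of (PlaneFix.trans (PlaneFix.trans (PlaneFix.trans (PlaneFix.trans (PlaneFix.trans (PlaneFix.trans (PlaneFix.trans (PlaneFix.trans (PlaneFix.trans (PlaneFix.trans (PlaneFix.trans (PlaneFix.trans (PlaneFix.trans (PlaneFix.trans (PlaneFix.trans (PlaneFix.trans (PlaneFix.trans (PlaneFix.trans (hU.rel rel5_0) (hU.rel rel5_1)) (hU.rel rel5_2)) (hU.rel rel5_3)) (hU.rel rel5_4))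 (hU.rel rel5_5)) (hU.rel rel5_6)) (hU.rel rel5_7)) (hU.rel rel5_8)) (hU.rel rel5_9)) (hU.rel rel5_10)) (hU.rel rel5_11)) (hU.rel rel5_12)) (hU.rel rel5_13)) (hU.rel rel5_14)) (hU.rel rel5_15)) (hU.rel rel5_16)) (hU.rel rel5_17)) (hU.rel rel5_18)))
theorem mem34 : U.τ 34 ∈ gsub 12 fP := Tab.mem_inv mem33 (by decide +kernel)
theorem mem35 : U.τ 35 ∈ gsub 12 fP :=
  mem_def (d := [31, 30, 31, 30, 32, 30, 32, 30, 32, 30, 32, 30, 31, 30, 32, 30, 31, 30, 31, 30, 32, 30, 31, 30, 31, 30, 32, 30, 31, 30, 31, 30, 32, 30, 32, 30, 32, 30, 32, 30, 31, 30, 32, 30, 32, 30, 32, 30, 32, 30, 32, 30, 32, 30, 31, 30, 31, 30, 31, 30, 32, 30, 32, 30, 31, 30, 31, 30, 32, 30, 32]) (AllP.of_sub (l := [30, 31, 32]) (AllP.cons mem30 (AllP.cons mem31 (AllP.cons mem32 (AllP.nil)))) (by decide +kernel)) (hU.one_of (PlaneFix.trans (PlaneFix.trans (PlaneFix.trans (PlaneFix.trans (PlaneFix.trans (PlaneFix.trans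 (PlaneFix.trans (PlaneFix.trans (PlaneFix.trans (PlaneFix.trans (PlaneFix.trans (PlaneFix.trans (PlaneFix.trans (PlaneFix.trans (PlaneFix.trans (PlaneFix.trans (PlaneFix.trans (PlaneFix.trans (hU.rel rel6_0) (hU.rel rel6_1)) (hU.rel rel6_2)) (hU.rel rel6_3)) (hU.rel rel6_4)) (hU.rel rel6_5)) (hU.rel rel6_6)) (hU.rel rel6_7)) (hU.rel rel6_8)) (hU.rel rel6_9)) (hU.rel rel6_10)) (hU.rel rel6_11)) (hU.rel rel6_12)) (hU.rel rel6_13)) (hU.rel rel6_14)) (hU.rel rel6_15)) (hU.rel rel6_16)) (hU.rel rel6_17)) (hU.rel rel6_18)))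
theorem mem36 : U.τ 36 ∈ gsub 12 fP := Tab.mem_inv mem35 (by decide +kernel)
theorem mem37 : U.τ 37 ∈ gsub 12 fP :=
  mem_def (d := [31, 30, 31, 30, 31, 30, 31, 30, 32, 30, 32, 30, 31, 30, 32, 30, 32, 30, 31, 30, 32, 30, 31, 30, 31, 30, 31, 30, 32, 30, 32, 30, 32, 30, 31, 30, 31, 30, 32, 30, 31, 30, 32, 30, 32, 30, 31, 30, 32, 30, 32, 30, 32, 30, 32, 30, 32, 30, 31, 30, 31, 30, 31, 30, 32, 30]) (AllP.of_sub (l := [30, 31, 32]) (AllP.cons mem30 (AllP.cons mem31 (AllP.cons mem32 (AllP.nil)))) (by decide +kernel)) (hU.one_of (PlaneFix.trans (PlaneFix.trans (PlaneFix.trans (PlaneFix.trans (PlaneFix.trans (PlaneFix.trans (PlaneFix.trans (PlaneFix.trans (PlaneFix.trans (PlaneFix.trans (PlaneFix.trans (PlaneFix.trans (PlaneFix.trans (PlaneFix.trans (PlaneFix.trans (PlaneFix.trans (PlaneFix.trans (PlaneFix.trans (hU.rel rel7_0) (hU.rel rel7_1)) (hU.rel rel7_2)) (hU.rel rel7_3)) (hU.rel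 rel7_4)) (hU.rel rel7_5)) (hU.rel rel7_6)) (hU.rel rel7_7)) (hU.rel rel7_8)) (hU.rel rel7_9)) (hU.rel rel7_10)) (hU.rel rel7_11)) (hU.rel rel7_12)) (hU.rel rel7_13)) (hU.rel rel7_14)) (hU.rel rel7_15)) (hU.rel rel7_16)) (hU.rel rel7_17)) (hU.rel rel7_18)))
theorem mem38 : U.τ 38 ∈ gsub 12 fP := Tab.mem_inv mem37 (by decide +kernel)
theorem mem39 : U.τ 39 ∈ gsub 12 fP :=
  mem_def (d := [32, 30, 31, 30, 31, 30, 31, 30, 32, 30, 32, 30, 32, 30, 32, 30, 32, 30, 31, 30, 32, 30, 32, 30, 31, 30, 32, 30, 31, 30, 31, 30, 32, 30, 32, 30, 32, 30, 31, 30, 31, 30, 31, 30, 32, 30, 31, 30, 32, 30, 32, 30, 31, 30, 32, 30, 32, 30, 31, 30, 31, 30, 31, 30, 31, 30]) (AllP.of_sub (l := [30, 31, 32]) (AllP.cons mem30 (AllP.cons mem31 (AllP.cons mem32 (AllP.nil)))) (by decide +kernel)) (hU.one_of (PlaneFix.trans (PlaneFix.trans (PlaneFix.trans (PlaneFix.trans (PlaneFix.trans (PlaneFix.trans (PlaneFix.trans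 (PlaneFix.trans (PlaneFix.trans (PlaneFix.trans (PlaneFix.trans (PlaneFix.trans (PlaneFix.trans (PlaneFix.trans (PlaneFix.trans (PlaneFix.trans (PlaneFix.trans (PlaneFix.trans (hU.rel rel8_0) (hU.rel rel8_1)) (hU.rel rel8_2)) (hU.rel rel8_3)) (hU.rel rel8_4)) (hU.rel rel8_5)) (hU.rel rel8_6)) (hU.rel rel8_7)) (hU.rel rel8_8)) (hU.rel rel8_9)) (hU.rel rel8_10)) (hU.rel rel8_11)) (hU.rel rel8_12)) (hU.rel rel8_13)) (hU.rel rel8_14)) (hU.rel rel8_15)) (hU.rel rel8_16)) (hU.rel rel8_17)) (hU.rel rel8_18)))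
theorem mem40 : U.τ 40 ∈ gsub 12 fP := Tab.mem_inv mem39 (by decide +kernel)
theorem pHsq : ∀ j < 5, j < 5 → U.fP [33, 29, 35, 37, 39] j * U.fP [33, 29, 35, 37, 39] j = 1 :=
  Tab.sq (show AllP (fun z => evA U.τ [z, z] = 1) [33, 29, 35, 37, 39] from AllP.cons (hU.one rel9) (AllP.cons (hU.one rel10) (AllP.cons (hU.one rel11) (AllP.cons (hU.one rel12) (AllP.cons (hU.one rel13) (AllP.nil)))))) 5 rfl
theorem pHiv : IvOk (2 * 5) (atm 5 (U.fP [33, 29, 35, 37, 39])) := ivOk_atm pHsq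
theorem pHpz33 : PZ U (atm 5 (U.fP [33, 29, 35, 37, 39])) pHEX 33 := PZ.of_atom (y := 2 * 0) (by decide +kernel) (atm_two_mul _ (by decide))
theorem pHpz29 : PZ U (atm 5 (U.fP [33, 29, 35, 37, 39])) pHEX 29 := PZ.of_atom (y := 2 * 1) (by decide +kernel) (atm_two_mul _ (by decide))
theorem pHpz35 : PZ U (atm 5 (U.fP [33, 29, 35, 37, 39])) pHEX 35 := PZ.of_atom (y := 2 * 2) (by decide +kernel) (atm_two_mul _ (by decide))
theorem pHpz37 : PZ U (atm 5 (U.fP [33, 29, 35, 37, 39])) pHEX 37 := PZ.of_atom (y := 2 * 3) (by decide +kernel) (atm_two_mul _ (by decide))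
theorem pHpz39 : PZ U (atm 5 (U.fP [33, 29, 35, 37, 39])) pHEX 39 := PZ.of_atom (y := 2 * 4) (by decide +kernel) (atm_two_mul _ (by decide))
theorem pHPZ : AllP (PZ U (atm 5 (U.fP [33, 29, 35, 37, 39])) pHEX) [29, 33, 35, 37, 39] :=
  AllP.cons pHpz29 (AllP.cons pHpz33 (AllP.cons pHpz35 (AllP.cons pHpz37 (AllP.cons pHpz39 (AllP.nil)))))
theorem pH : Pres 5 5 R5 (U.fP [33, 29, 35, 37, 39]) :=
  ⟨pHsq, relAll_sound pHiv (W := [[35, 33, 35, 33], [37, 33, 37, 33], [39, 33, 39, 33], [37, 29, 37, 29], [39, 29, 39, 29], [29, 33, 29, 33, 29, 33], [37, 35, 37, 35, 37, 35], [39, 35, 39, 35, 39, 35], [39, 37, 39, 37, 39, 37, 39, 37], [39, 37, 39, 37, 33, 39, 37, 39, 37, 33], [39, 37, 39, 37, 29, 39, 37, 39, 37, 29], [39, 37, 39, 37, 35, 39, 37, 39, 37, 35, 39, 37, 39, 37, 35], [39, 37, 35, 29, 39, 37, 35, 29, 39, 37, 35, 29, 39, 37, 35, 29], [35, 29, 35, 29, 35, 29, 35, 29, 35, 29, 35,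 29, 35, 29, 35, 29, 35, 29, 35, 29], [37, 35, 29, 35, 29, 35, 29, 35, 29, 35, 29, 37, 35, 29, 35, 29, 35, 29, 35, 29, 35, 29], [39, 35, 29, 35, 29, 35, 29, 35, 29, 35, 29, 39, 35, 29, 35, 29, 35, 29, 35, 29, 35, 29], [39, 37, 39, 37, 35, 29, 35, 29, 35, 29, 35, 29, 35, 29, 39, 37, 39, 37, 35, 29, 35, 29, 35, 29, 35, 29, 35, 29], [35, 29, 35, 29, 35, 29, 35, 29, 35, 29, 33, 29, 35, 29, 35, 29, 35, 29, 35, 29, 35, 29, 33, 29, 35, 29, 35, 29, 35, 29, 35, 29, 35, 29, 33, 29, 39, 37, 39, 37], [33, 35, 29, 35, 29, 35, 29, 35, 29, 35, 29, 33, 35, 29, 35, 29, 35, 29, 35, 29, 35, 29, 33, 35, 29, 35, 29, 35, 29, 35, 29, 35, 29, 33, 35, 29, 35, 29, 35, 29, 35, 29, 35, 29]]) (rules := [⟨[35, 33, 35, 33], [], 0, true⟩, ⟨[37, 33, 37, 33], [], 1, true⟩, ⟨[39, 33, 39, 33], [], 2, true⟩, ⟨[37, 29, 37, 29], [], 3, true⟩, ⟨[39, 29, 39, 29], [], 4, true⟩, ⟨[29, 33, 29, 33, 29, 33], [], 5, true⟩,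 ⟨[37, 35, 37, 35, 37, 35], [], 6, true⟩, ⟨[39, 35, 39, 35, 39, 35], [], 7, true⟩, ⟨[39, 37, 39, 37, 39, 37, 39, 37], [], 8, true⟩, ⟨[39, 37, 39, 37, 33, 39, 37, 39, 37, 33], [], 9, true⟩, ⟨[39, 37, 39, 37, 29, 39, 37, 39, 37, 29], [], 10, true⟩, ⟨[39, 37, 39, 37, 35, 39, 37, 39, 37, 35, 39, 37, 39, 37, 35], [], 11, true⟩, ⟨[39, 37, 35, 29, 39, 37, 35, 29, 39, 37, 35, 29, 39, 37, 35, 29], [], 12, true⟩, ⟨[35, 29, 35, 29, 35, 29, 35, 29, 35, 29, 35, 29, 35, 29, 35, 29, 35, 29, 35, 29], [], 13, true⟩, ⟨[37, 35, 29, 35, 29, 35, 29, 35, 29, 35, 29, 37, 35, 29, 35, 29, 35, 29, 35, 29, 35, 29], [], 14, true⟩, ⟨[39, 35, 29, 35, 29, 35, 29, 35, 29, 35, 29, 39, 35, 29, 35, 29, 35, 29, 35, 29, 35, 29], [], 15, true⟩, ⟨[39, 37, 39, 37, 35, 29, 35, 29, 35, 29, 35, 29, 35, 29, 39, 37, 39, 37, 35, 29, 35, 29, 35, 29, 35, 29, 35, 29], [], 16, true⟩, ⟨[35, 29, 35, 29, 35, 29, 35, 29, 35, 29,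 33, 29, 35, 29, 35, 29, 35, 29, 35, 29, 35, 29, 33, 29, 35, 29, 35, 29, 35, 29, 35, 29, 35, 29, 33, 29, 39, 37, 39, 37], [], 17, true⟩, ⟨[33, 35, 29, 35, 29, 35, 29, 35, 29, 35, 29, 33, 35, 29, 35, 29, 35, 29, 35, 29, 35, 29, 33, 35, 29, 35, 29, 35, 29, 35, 29, 35, 29, 33, 35, 29, 35, 29, 35, 29, 35, 29, 35, 29], [], 18, true⟩]) pHPZ (AllP.cons (hU.one_of (PlaneFix.trans (hU.rel rel14_0) (hU.rel rel14_12))) (AllP.cons (hU.one_of (PlaneFix.trans (hU.rel rel15_0) (hU.rel rel15_12))) (AllP.cons (hU.one_of (PlaneFix.trans (hU.rel rel16_0) (hU.rel rel16_12))) (AllP.cons (hU.one_of (PlaneFix.trans (hU.rel rel17_0) (hU.rel rel17_12))) (AllP.cons (hU.one_of (PlaneFix.trans (hU.rel rel18_0) (hU.rel rel18_12))) (AllP.cons (hU.one_of (PlaneFix.trans (PlaneFix.trans (hU.rel rel19_0) (hU.rel rel19_8)) (hU.rel rel19_16))) (AllP.cons (hU.one_of (PlaneFix.trans (PlaneFix.trans (hU.rel rel20_0)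 (hU.rel rel20_8)) (hU.rel rel20_16))) (AllP.cons (hU.one_of (PlaneFix.trans (PlaneFix.trans (hU.rel rel21_0) (hU.rel rel21_8)) (hU.rel rel21_16))) (AllP.cons (hU.one_of (PlaneFix.trans (PlaneFix.trans (PlaneFix.trans (hU.rel rel22_0) (hU.rel rel22_6)) (hU.rel rel22_12)) (hU.rel rel22_18))) (AllP.cons (hU.one_of (PlaneFix.trans (PlaneFix.trans (PlaneFix.trans (PlaneFix.trans (hU.rel rel23_0) (hU.rel rel23_4)) (hU.rel rel23_8)) (hU.rel rel23_12)) (hU.rel rel23_16))) (AllP.cons (hU.one_of (PlaneFix.trans (PlaneFix.trans (PlaneFix.trans (PlaneFix.trans (hU.rel rel24_0) (hU.rel rel24_4)) (hU.rel rel24_8)) (hU.rel rel24_12)) (hU.rel rel24_16))) (AllP.cons (hU.one_of (PlaneFix.trans (PlaneFix.trans (PlaneFix.trans (PlaneFix.trans (PlaneFix.trans (PlaneFix.trans (hU.rel rel25_0) (hU.rel rel25_3)) (hU.rel rel25_6)) (hU.rel rel25_9)) (hU.rel rel25_12)) (hU.rel rel25_15)) (hU.rel rel25_18)))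 (AllP.cons (hU.one_of (PlaneFix.trans (PlaneFix.trans (PlaneFix.trans (PlaneFix.trans (PlaneFix.trans (PlaneFix.trans (hU.rel rel26_0) (hU.rel rel26_3)) (hU.rel rel26_6)) (hU.rel rel26_9)) (hU.rel rel26_12)) (hU.rel rel26_15)) (hU.rel rel26_18))) (AllP.cons (hU.one_of (PlaneFix.trans (PlaneFix.trans (PlaneFix.trans (PlaneFix.trans (PlaneFix.trans (PlaneFix.trans (PlaneFix.trans (PlaneFix.trans (PlaneFix.trans (hU.rel rel27_0) (hU.rel rel27_2)) (hU.rel rel27_4)) (hU.rel rel27_6)) (hU.rel rel27_8)) (hU.rel rel27_10)) (hU.rel rel27_12)) (hU.rel rel27_14)) (hU.rel rel27_16)) (hU.rel rel27_18))) (AllP.cons (hU.one_of (PlaneFix.trans (PlaneFix.trans (PlaneFix.trans (PlaneFix.trans (PlaneFix.trans (PlaneFix.trans (PlaneFix.trans (PlaneFix.trans (PlaneFix.trans (hU.rel rel28_0) (hU.rel rel28_2)) (hU.rel rel28_4)) (hU.rel rel28_6)) (hU.rel rel28_8)) (hU.rel rel28_10)) (hU.rel rel28_12))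 (hU.rel rel28_14)) (hU.rel rel28_16)) (hU.rel rel28_18))) (AllP.cons (hU.one_of (PlaneFix.trans (PlaneFix.trans (PlaneFix.trans (PlaneFix.trans (PlaneFix.trans (PlaneFix.trans (PlaneFix.trans (PlaneFix.trans (PlaneFix.trans (hU.rel rel29_0) (hU.rel rel29_2)) (hU.rel rel29_4)) (hU.rel rel29_6)) (hU.rel rel29_8)) (hU.rel rel29_10)) (hU.rel rel29_12)) (hU.rel rel29_14)) (hU.rel rel29_16)) (hU.rel rel29_18))) (AllP.cons (hU.one_of (PlaneFix.trans (PlaneFix.trans (PlaneFix.trans (PlaneFix.trans (PlaneFix.trans (PlaneFix.trans (PlaneFix.trans (PlaneFix.trans (PlaneFix.trans (PlaneFix.trans (PlaneFix.trans (PlaneFix.trans (PlaneFix.trans (PlaneFix.trans (PlaneFix.trans (PlaneFix.trans (PlaneFix.trans (PlaneFix.trans (hU.rel rel30_0) (hU.rel rel30_1)) (hU.rel rel30_2)) (hU.rel rel30_3)) (hU.rel rel30_4)) (hU.rel rel30_5)) (hU.rel rel30_6)) (hU.rel rel30_7)) (hU.rel rel30_8)) (hU.rel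 rel30_9)) (hU.rel rel30_10)) (hU.rel rel30_11)) (hU.rel rel30_12)) (hU.rel rel30_13)) (hU.rel rel30_14)) (hU.rel rel30_15)) (hU.rel rel30_16)) (hU.rel rel30_17)) (hU.rel rel30_18))) (AllP.cons (hU.one_of (PlaneFix.trans (PlaneFix.trans (PlaneFix.trans (PlaneFix.trans (PlaneFix.trans (PlaneFix.trans (PlaneFix.trans (PlaneFix.trans (PlaneFix.trans (PlaneFix.trans (PlaneFix.trans (PlaneFix.trans (PlaneFix.trans (PlaneFix.trans (PlaneFix.trans (PlaneFix.trans (PlaneFix.trans (PlaneFix.trans (hU.rel rel31_0) (hU.rel rel31_1)) (hU.rel rel31_2)) (hU.rel rel31_3)) (hU.rel rel31_4)) (hU.rel rel31_5)) (hU.rel rel31_6)) (hU.rel rel31_7)) (hU.rel rel31_8)) (hU.rel rel31_9)) (hU.rel rel31_10)) (hU.rel rel31_11)) (hU.rel rel31_12)) (hU.rel rel31_13)) (hU.rel rel31_14)) (hU.rel rel31_15)) (hU.rel rel31_16)) (hU.rel rel31_17)) (hU.rel rel31_18))) (AllP.cons (hU.one_of (PlaneFix.trans (PlaneFix.trans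 (PlaneFix.trans (PlaneFix.trans (PlaneFix.trans (PlaneFix.trans (PlaneFix.trans (PlaneFix.trans (PlaneFix.trans (PlaneFix.trans (PlaneFix.trans (PlaneFix.trans (PlaneFix.trans (PlaneFix.trans (PlaneFix.trans (PlaneFix.trans (PlaneFix.trans (PlaneFix.trans (hU.rel rel32_0) (hU.rel rel32_1)) (hU.rel rel32_2)) (hU.rel rel32_3)) (hU.rel rel32_4)) (hU.rel rel32_5)) (hU.rel rel32_6)) (hU.rel rel32_7)) (hU.rel rel32_8)) (hU.rel rel32_9)) (hU.rel rel32_10)) (hU.rel rel32_11)) (hU.rel rel32_12)) (hU.rel rel32_13)) (hU.rel rel32_14)) (hU.rel rel32_15)) (hU.rel rel32_16)) (hU.rel rel32_17)) (hU.rel rel32_18))) (AllP.nil)))))))))))))))))))) (by decide +kernel)⟩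
theorem pHe : Pres 7 7 HeG.RL (wv 5 (U.fP [33, 29, 35, 37, 39]) WD7) := pH.subst (WD := WD7) (H := [([], 13, true), ([], 19, false), ([], 19, false), ([], 19, false), ([], 8, true), ([], 19, false), ([], 19, false), ([], 18, true), ([], 19, false), ([], 19, false), ([], 16, true), ([], 14, true), ([], 15, true), ([], 5, true), ([], 0, true), ([], 9, true), ([], 1, true), ([], 2, true), ([], 13, true), ([], 10, true), ([], 3, true), ([], 4, true), ([], 11, true), ([], 6, true), ([], 7, true), ([], 19, false), ([], 19, false), ([], 8, true), ([], 19, false), ([], 17, true), ([], 19, false), ([], 12, true)]) (by decide +kernel)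
theorem subHe : ∃ K : Subgroup (Equiv.Perm ℕ), K ≤ gsub 12 fP ∧ IsSimpleGroup K ∧ Nat.card K = 4030387200 :=
  ⟨gsub 7 (wv 5 (U.fP [33, 29, 35, 37, 39]) WD7), (wsub_le_gsub 5 _ WD7).trans (Tab.gsub_fP_le (gs := [33, 29, 35, 37, 39]) (AllP.cons mem33 (AllP.cons mem29 (AllP.cons mem35 (AllP.cons mem37 (AllP.cons mem39 (AllP.nil))))))),
    HeG.bound.simple' (by norm_num) HeG.pres HeG.top HeG.simple HeG.card pHe (w := [2]) fun h => by
      rw [← ev_subW pH.ivOk] at h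
      have h1 : ev (atm 5 (U.fP [33, 29, 35, 37, 39])) [0] = evA U.τ [33] := pHpz33.trans (one_mul _).symm
      exact ne_one_of_sends h1 (hU.sends sd33) (by decide) h⟩

end Cfsg.Agent.Spor.Fi306936.V
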