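import Cfsg.Agent.Spor.Fi306936.V.D0
import Cfsg.Agent.Spor.Fi306936.V.D1
import Cfsg.Agent.Spor.Fi306936.V.D2
import Cfsg.Agent.Spor.Fi306936.V.D3
import Cfsg.Agent.Spor.Fi306936.V.D4
import Cfsg.Agent.Spor.Fi306936.V.D5

set_option autoImplicit false
set_option maxRecDepth 100000000
set_option Elab.async false
noncomputable section

namespace Cfsg.Agent.Spor.Fi306936.V

def U : Tab := ⟨[n0, n1, n2, n3, n4, n5, n6, n7, n8, n9, n10, n11, n12, n13, un14, un15, un16, un17, un18, un19], [⟨0, false, 0, 0, []⟩, ⟨0, false, 0, 0, []⟩, ⟨0, true, 0, 0, []⟩, ⟨1, false, 0, 0, []⟩, ⟨1, true, 0, 0, []⟩, ⟨2, false, 0, 0, []⟩, ⟨2, true, 0, 0, []⟩, ⟨3, false, 0, 0, []⟩, ⟨3, true, 0, 0, []⟩, ⟨4, false, 0, 0, []⟩, ⟨4, true, 0, 0, []⟩, ⟨5, false, 0, 0, []⟩, ⟨5, true, 0, 0, []⟩, ⟨6, false,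 0, 0, []⟩, ⟨6, true, 0, 0, []⟩, ⟨7, false, 0, 0, []⟩, ⟨7, true, 0, 0, []⟩, ⟨8, false, 0, 0, []⟩, ⟨8, true, 0, 0, []⟩, ⟨9, false, 0, 0, []⟩, ⟨9, true, 0, 0, []⟩, ⟨10, false, 0, 0, []⟩, ⟨10, true, 0, 0, []⟩, ⟨11, false, 0, 0, []⟩, ⟨11, true, 0, 0, []⟩, ⟨12, false, 0, 0, []⟩, ⟨12, true, 0, 0, []⟩, ⟨13, false, 0, 0, []⟩, ⟨13, true, 0, 0, []⟩, ⟨14, false, 0, 0, []⟩, ⟨14, true, 0, 0, []⟩, ⟨15, false, 0, 0, []⟩, ⟨15, true, 0, 0, []⟩, ⟨16, false, 0, 0, []⟩, ⟨16, true, 0, 0, []⟩, ⟨17, false, 0, 0, []⟩, ⟨17, true, 0, 0, []⟩, ⟨18, false, 0, 0, []⟩, ⟨18, true, 0, 0, []⟩, ⟨19, false, 0, 0, []⟩, ⟨19, true, 0, 0, []⟩]⟩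

end Cfsg.Agent.Spor.Fi306936.V
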